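/-
Irreducible representations with scalar commutators and squares ("Heisenberg type"), and the
groups acting on them.

* `Sc`, `scal`, `cm` : scalar elements and the commutator pairing
* `Heis`, `Acts`, `Fpf`, `Lifts` : the data of the lifting problem
* `exists_cm_eq` : the pairing is perfect
* `avg_mem` : coprime averaging modulo an invariant subgroup
* `exists_intertwiner`, `intertwiner_unique`
-/
import Mathlib

set_option autoImplicit false
set_option linter.style.haveILetI false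
set_option linter.unusedSectionVars false

namespace Cfsg.Agent.HeisenbergLift

open Module

variable {G : Type*} [Group G] {V : Type*} [AddCommGroup V] [Module ℂ V]

/-- `ρ e` is a scalar. -/
def Sc (ρ : G → Module.End ℂ V) (e : G) : Prop := ∃ c : ℂ, ρ e = c • (1 : Module.End ℂ V)

/-- The scalar attached to a scalar element. -/
noncomputable def scal (ρ : G → Module.End ℂ V) (x : G) : ℂ :=
  LinearMap.trace ℂ V (ρ x) / (finrank ℂ V : ℂ)

/-- The commutator pairing. -/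
noncomputable def cm (ρ : G → Module.End ℂ V) (a b : G) : ℂ := scal ρ (a * b * a⁻¹ * b⁻¹)

/-- An irreducible representation of `E` with scalar commutators and squares. -/
structure Heis (E : Subgroup G) (ρ : G → Module.End ℂ V) : Prop where
  one : ρ 1 = 1
  mul : ∀ a ∈ E, ∀ b ∈ E, ρ (a * b) = ρ a * ρ b
  comm : ∀ a ∈ E, ∀ b ∈ E, Sc ρ (a * b * a⁻¹ * b⁻¹)
  sq : ∀ a ∈ E, Sc ρ (a * a)
  irr : ∀ W : Submodule ℂ V, (∀ a ∈ E, ∀ v ∈ W, ρ a v ∈ W) → W = ⊥ ∨ W = ⊤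
  nontrivial : Nontrivial V

/-- `H` normalises `E` and fixes the scalar part of `ρ`. -/
structure Acts (H E : Subgroup G) (ρ : G → Module.End ℂ V) : Prop where
  norm : ∀ g ∈ H, ∀ e ∈ E, g * e * g⁻¹ ∈ E
  fix : ∀ g ∈ H, ∀ s ∈ E, Sc ρ s → ρ (g * s * g⁻¹) = ρ s

/-- `K` fixes only the scalars modulo scalars. -/
def Fpf (K E : Subgroup G) (ρ : G → Module.End ℂ V) : Prop :=
  ∀ e ∈ E, (∀ k ∈ K, Sc ρ (e⁻¹ * (k * e * k⁻¹))) → Sc ρ e

/-- The projective action of `T` on the space of `ρ` lifts to an action. -/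
def Lifts (T E : Subgroup G) (ρ : G → Module.End ℂ V) : Prop :=
  ∃ R : G → Module.End ℂ V, R 1 = 1 ∧ (∀ s ∈ T, ∀ t ∈ T, R (s * t) = R s * R t) ∧
    ∀ t ∈ T, ∀ e ∈ E, R t * ρ e = ρ (t * e * t⁻¹) * R t

variable [FiniteDimensional ℂ V] {E : Subgroup G} {ρ : G → Module.End ℂ V}

lemma finrank_ne_zero (h : Heis E ρ) : (finrank ℂ V : ℂ) ≠ 0 := by
  haveI := h.nontrivial
  exact_mod_cast (finrank_pos (R := ℂ) (M := V)).ne'

lemma one_ne_zero' (h : Heis E ρ) : (1 : Module.End ℂ V) ≠ 0 := by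
  haveI := h.nontrivial
  exact one_ne_zero

lemma smul_one_inj (h : Heis E ρ) {a b : ℂ}
    (hab : a • (1 : Module.End ℂ V) = b • 1) : a = b := smul_left_injective ℂ (one_ne_zero' h) hab

lemma scal_eq (h : Heis E ρ) {x : G} {c : ℂ} (hc : ρ x = c • 1) : scal ρ x = c := by
  rw [scal, hc, map_smul, LinearMap.trace_one, smul_eq_mul, mul_div_assoc, div_self (finrank_ne_zero h),
    mul_one]

lemma Sc.eq_scal (h : Heis E ρ) {x : G} (hx : Sc ρ x) : ρ x = scal ρ x • 1 := by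
  obtain ⟨c, hc⟩ := hx
  rw [scal_eq h hc, hc]

lemma mul_inv_self (h : Heis E ρ) {a : G} (ha : a ∈ E) : ρ a * ρ a⁻¹ = 1 := by
  rw [← h.mul a ha a⁻¹ (E.inv_mem ha), mul_inv_cancel, h.one]

lemma inv_mul_self (h : Heis E ρ) {a : G} (ha : a ∈ E) : ρ a⁻¹ * ρ a = 1 := by
  rw [← h.mul a⁻¹ (E.inv_mem ha) a ha, inv_mul_cancel, h.one]

lemma isUnit (h : Heis E ρ) {a : G} (ha : a ∈ E) : IsUnit (ρ a) :=
  ⟨⟨ρ a, ρ a⁻¹, mul_inv_self h ha, inv_mul_self h ha⟩, rfl⟩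

lemma apply_ne_zero (h : Heis E ρ) {a : G} (ha : a ∈ E) {v : V} (hv : v ≠ 0) : ρ a v ≠ 0 := by
  intro hz
  apply hv
  calc v = (ρ a⁻¹ * ρ a) v := by rw [inv_mul_self h ha]; rfl
    _ = 0 := by rw [Module.End.mul_apply, hz, map_zero]

lemma sc_one (h : Heis E ρ) : Sc ρ 1 := ⟨1, by rw [h.one, one_smul]⟩

lemma Sc.mul' (h : Heis E ρ) {a b : G} (ha : a ∈ E) (hb : b ∈ E) (h1 : Sc ρ a) (h2 : Sc ρ b) :
    Sc ρ (a * b) := by
  obtain ⟨c, hc⟩ := h1
  obtain ⟨d, hd⟩ := h2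
  exact ⟨c * d, by rw [h.mul a ha b hb, hc, hd, smul_mul_smul_comm, one_mul]⟩

lemma Sc.inv' (h : Heis E ρ) {a : G} (ha : a ∈ E) (h1 : Sc ρ a) : Sc ρ a⁻¹ := by
  obtain ⟨c, hc⟩ := h1
  have hc0 : c ≠ 0 := by
    rintro rfl
    rw [zero_smul] at hc
    exact one_ne_zero' h (by rw [← mul_inv_self h ha, hc, zero_mul])
  refine ⟨c⁻¹, ?_⟩
  have h2 := mul_inv_self h ha
  rw [hc, smul_mul_assoc, one_mul] at h2
  rw [← h2, smul_smul, inv_mul_cancel₀ hc0, one_smul]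

/-- The scalar elements of `E`. -/
def scSub (h : Heis E ρ) : Subgroup G where
  carrier := {e | e ∈ E ∧ Sc ρ e}
  one_mem' := ⟨E.one_mem, sc_one h⟩
  mul_mem' := fun ha hb => ⟨E.mul_mem ha.1 hb.1, Sc.mul' h ha.1 hb.1 ha.2 hb.2⟩
  inv_mem' := fun ha => ⟨E.inv_mem ha.1, Sc.inv' h ha.1 ha.2⟩

lemma mem_scSub (h : Heis E ρ) {e : G} : e ∈ scSub h ↔ e ∈ E ∧ Sc ρ e := Iff.rfl

lemma scSub_le (h : Heis E ρ) : scSub h ≤ E := fun _ he => he.1

lemma comm_eq (h : Heis E ρ) {a b : G} (ha : a ∈ E) (hb : b ∈ E) :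
    ρ a * ρ b = cm ρ a b • (ρ b * ρ a) := by
  have hm : a * b * a⁻¹ * b⁻¹ ∈ E :=
    E.mul_mem (E.mul_mem (E.mul_mem ha hb) (E.inv_mem ha)) (E.inv_mem hb)
  rw [← h.mul a ha b hb, show a * b = a * b * a⁻¹ * b⁻¹ * (b * a) by group,
    h.mul _ hm _ (E.mul_mem hb ha), (h.comm a ha b hb).eq_scal h, smul_mul_assoc, one_mul,
    h.mul b hb a ha]
  rfl

lemma cm_eq_of (h : Heis E ρ) {a b : G} (ha : a ∈ E) (hb : b ∈ E) {c : ℂ}
    (hc : ρ a * ρ b = c • (ρ b * ρ a)) : cm ρ a b = c := by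
  have hu : IsUnit (ρ b * ρ a) := (isUnit h hb).mul (isUnit h ha)
  refine smul_one_inj h (hu.mul_right_cancel ?_)
  rw [smul_mul_assoc, smul_mul_assoc, one_mul, ← comm_eq h ha hb, hc]

lemma cm_mul_left (h : Heis E ρ) {a a' b : G} (ha : a ∈ E) (ha' : a' ∈ E) (hb : b ∈ E) :
    cm ρ (a * a') b = cm ρ a b * cm ρ a' b := by
  refine cm_eq_of h (E.mul_mem ha ha') hb ?_
  rw [h.mul a ha a' ha', mul_assoc, comm_eq h ha' hb, mul_smul_comm, ← mul_assoc, comm_eq h ha hb,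
    smul_mul_assoc, smul_smul, mul_comm (cm ρ a' b), mul_assoc]

lemma cm_mul_right (h : Heis E ρ) {a b b' : G} (ha : a ∈ E) (hb : b ∈ E) (hb' : b' ∈ E) :
    cm ρ a (b * b') = cm ρ a b * cm ρ a b' := by
  refine cm_eq_of h ha (E.mul_mem hb hb') ?_
  rw [h.mul b hb b' hb', ← mul_assoc, comm_eq h ha hb, smul_mul_assoc, mul_assoc, comm_eq h ha hb',
    mul_smul_comm, smul_smul, ← mul_assoc]

lemma cm_of_sc_left (h : Heis E ρ) {a b : G} (ha : a ∈ E) (hb : b ∈ E) (hs : Sc ρ a) :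
    cm ρ a b = 1 := by
  refine cm_eq_of h ha hb ?_
  rw [hs.eq_scal h, one_smul, smul_mul_assoc, one_mul, mul_smul_comm, mul_one]

lemma cm_of_sc_right (h : Heis E ρ) {a b : G} (ha : a ∈ E) (hb : b ∈ E) (hs : Sc ρ b) :
    cm ρ a b = 1 := by
  refine cm_eq_of h ha hb ?_
  rw [hs.eq_scal h, one_smul, smul_mul_assoc, one_mul, mul_smul_comm, mul_one]

lemma cm_sq (h : Heis E ρ) {a b : G} (ha : a ∈ E) (hb : b ∈ E) : cm ρ a b * cm ρ a b = 1 := by
  rw [← cm_mul_left h ha ha hb]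
  exact cm_of_sc_left h (E.mul_mem ha ha) hb (h.sq a ha)

lemma cm_symm (h : Heis E ρ) {a b : G} (ha : a ∈ E) (hb : b ∈ E) : cm ρ a b = cm ρ b a := by
  refine cm_eq_of h ha hb ?_
  rw [comm_eq h hb ha, smul_smul, cm_sq h hb ha, one_smul]

lemma commute_iff (h : Heis E ρ) {a b : G} (ha : a ∈ E) (hb : b ∈ E) :
    cm ρ a b = 1 ↔ ρ a * ρ b = ρ b * ρ a :=
  ⟨fun h1 => by rw [comm_eq h ha hb, h1, one_smul], fun h1 => cm_eq_of h ha hb (by rw [h1, one_smul])⟩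

/-- Schur. -/
lemma exists_scalar (h : Heis E ρ) (f : Module.End ℂ V) (hf : ∀ a ∈ E, f * ρ a = ρ a * f) :
    ∃ c : ℂ, f = c • 1 := by
  haveI := h.nontrivial
  obtain ⟨c, hc⟩ := Module.End.exists_eigenvalue f
  refine ⟨c, LinearMap.ext fun v => ?_⟩
  have hinv : ∀ a ∈ E, ∀ v ∈ Module.End.eigenspace f c, ρ a v ∈ Module.End.eigenspace f c := by
    intro a ha v hv
    rw [Module.End.mem_eigenspace_iff] at hv ⊢
    rw [← Module.End.mul_apply, hf a ha, Module.End.mul_apply, hv, map_smul]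
  rcases h.irr _ hinv with hb | ht
  · exact absurd hb (Module.End.hasEigenvalue_iff.mp hc)
  · have : v ∈ Module.End.eigenspace f c := by rw [ht]; trivial
    simpa using Module.End.mem_eigenspace_iff.mp this

lemma sc_of_forall_cm (h : Heis E ρ) {a : G} (ha : a ∈ E) (hall : ∀ b ∈ E, cm ρ a b = 1) : Sc ρ a :=
  exists_scalar h (ρ a) fun b hb => (commute_iff h ha hb).mp (hall b hb)

lemma exists_cm_ne_one (h : Heis E ρ) {a : G} (ha : a ∈ E) (hs : ¬ Sc ρ a) :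
    ∃ b ∈ E, cm ρ a b ≠ 1 := by
  by_contra hh
  push Not at hh
  exact hs (sc_of_forall_cm h ha hh)

lemma trace_eq_zero (h : Heis E ρ) {a : G} (ha : a ∈ E) (hs : ¬ Sc ρ a) :
    LinearMap.trace ℂ V (ρ a) = 0 := by
  obtain ⟨b, hb, hne⟩ := exists_cm_ne_one h ha hs
  have h1 : LinearMap.trace ℂ V (ρ a * ρ b * ρ b⁻¹) = LinearMap.trace ℂ V (ρ a) := by
    rw [mul_assoc, mul_inv_self h hb, mul_one]
  rw [comm_eq h ha hb, smul_mul_assoc, map_smul, LinearMap.trace_mul_comm, ← mul_assoc,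
    inv_mul_self h hb, one_mul, smul_eq_mul] at h1
  by_contra h0
  exact hne ((mul_eq_right₀ h0).mp h1)

/-- Scalar multiples are transported by the action. -/
lemma conj_congr (h : Heis E ρ) {g x y : G} {H : Subgroup G} (hH : Acts H E ρ) (hg : g ∈ H)
    (hx : x ∈ E) (hy : y ∈ E) {c : ℂ} (hxy : ρ x = c • ρ y) :
    ρ (g * x * g⁻¹) = c • ρ (g * y * g⁻¹) := by
  have hmem : y⁻¹ * x ∈ E := E.mul_mem (E.inv_mem hy) hx
  have h1 : ρ (y⁻¹ * x) = c • 1 := by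
    rw [h.mul _ (E.inv_mem hy) x hx, hxy, mul_smul_comm, inv_mul_self h hy]
  have h2 := hH.fix g hg _ hmem ⟨c, h1⟩
  rw [show g * x * g⁻¹ = (g * y * g⁻¹) * (g * (y⁻¹ * x) * g⁻¹) by group,
    h.mul _ (hH.norm g hg y hy) _ (hH.norm g hg _ hmem), h2, h1, mul_smul_comm, mul_one]

lemma sc_conj (h : Heis E ρ) {H : Subgroup G} (hH : Acts H E ρ) {g s : G} (hg : g ∈ H) (hs : s ∈ E)
    (hsc : Sc ρ s) : Sc ρ (g * s * g⁻¹) := by
  rw [Sc, hH.fix g hg s hs hsc]; exact hsc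

lemma cm_conj (h : Heis E ρ) {H : Subgroup G} (hH : Acts H E ρ) {g a b : G} (hg : g ∈ H) (ha : a ∈ E)
    (hb : b ∈ E) : cm ρ (g * a * g⁻¹) (g * b * g⁻¹) = cm ρ a b := by
  refine cm_eq_of h (hH.norm g hg a ha) (hH.norm g hg b hb) ?_
  have h1 : ρ (a * b) = cm ρ a b • ρ (b * a) := by
    rw [h.mul a ha b hb, h.mul b hb a ha]; exact comm_eq h ha hb
  have h2 := conj_congr h hH hg (E.mul_mem ha hb) (E.mul_mem hb ha) h1
  rw [← h.mul _ (hH.norm g hg a ha) _ (hH.norm g hg b hb), ← h.mul _ (hH.norm g hg b hb) _ (hH.norm g hg a ha),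
    show g * a * g⁻¹ * (g * b * g⁻¹) = g * (a * b) * g⁻¹ by group,
    show g * b * g⁻¹ * (g * a * g⁻¹) = g * (b * a) * g⁻¹ by group, h2]

lemma Acts.mono {H H' : Subgroup G} (hH : Acts H E ρ) (hle : H' ≤ H) : Acts H' E ρ :=
  ⟨fun g hg => hH.norm g (hle hg), fun g hg => hH.fix g (hle hg)⟩

variable [Finite G]

/-- The pairing is perfect. -/
theorem exists_cm_eq (h : Heis E ρ) {E₀ A : Subgroup G} (hE₀ : E₀ ≤ E) (hA : A ≤ E) (χ : G → ℂ)
    (hχm : ∀ a ∈ A, ∀ b ∈ A, χ (a * b) = χ a * χ b)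
    (hker : ∀ a ∈ A, (∀ e ∈ E₀, cm ρ e a = 1) → χ a = 1) :
    ∃ e ∈ E₀, ∀ a ∈ A, cm ρ e a = χ a := by
  classical
  by_contra hne
  push Not at hne
  haveI := Fintype.ofFinite G
  haveI : Fintype A := Fintype.ofFinite A
  haveI : Fintype E₀ := Fintype.ofFinite E₀
  have hrow : ∀ e : E₀, ∑ a : A, cm ρ e a * χ a = 0 := by
    intro e
    obtain ⟨a₀, ha₀, hne₀⟩ := hne e e.2
    have hmul : ∑ a : A, cm ρ e (⟨a₀, ha₀⟩ * a : A) * χ (⟨a₀, ha₀⟩ * a : A) =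
        (cm ρ e a₀ * χ a₀) * ∑ a : A, cm ρ e a * χ a := by
      rw [Finset.mul_sum]
      refine Finset.sum_congr rfl fun a _ => ?_
      rw [Subgroup.coe_mul, cm_mul_right h (hE₀ e.2) (hA ha₀) (hA a.2), hχm _ ha₀ _ a.2]
      ring
    rw [show (∑ a : A, cm ρ e (⟨a₀, ha₀⟩ * a : A) * χ (⟨a₀, ha₀⟩ * a : A)) = ∑ a : A, cm ρ e a * χ a from
      Fintype.sum_equiv (Equiv.mulLeft (⟨a₀, ha₀⟩ : A)) _ _ fun a => rfl] at hmul
    by_contra h0
    apply hne₀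
    have h1 : cm ρ e a₀ * χ a₀ = 1 := (mul_eq_right₀ h0).mp hmul.symm
    calc cm ρ e a₀ = cm ρ e a₀ * (cm ρ e a₀ * χ a₀) := by rw [h1, mul_one]
      _ = χ a₀ := by rw [← mul_assoc, cm_sq h (hE₀ e.2) (hA ha₀), one_mul]
  have htot : ∑ a : A, ∑ e : E₀, cm ρ e a * χ a = 0 := by
    rw [Finset.sum_comm]
    exact Finset.sum_eq_zero fun e _ => hrow e
  have hcol : ∀ a : A, ∑ e : E₀, cm ρ e a * χ a =
      if (∀ e ∈ E₀, cm ρ e a = 1) then (Fintype.card E₀ : ℂ) else 0 := by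
    intro a
    split_ifs with ha
    · rw [Finset.sum_congr rfl fun (e : E₀) _ => show cm ρ e a * χ a = 1 by
        rw [ha e e.2, hker a a.2 ha, one_mul]]
      simp
    · push Not at ha
      obtain ⟨e₀, he₀, hne₀⟩ := ha
      rw [← Finset.sum_mul]
      have hmul : cm ρ e₀ a * (∑ e : E₀, cm ρ e a) = ∑ e : E₀, cm ρ e a := by
        rw [Finset.mul_sum]
        refine Fintype.sum_equiv (Equiv.mulLeft (⟨e₀, he₀⟩ : E₀)) _ _ fun e => ?_
        exact (cm_mul_left h (hE₀ he₀) (hE₀ e.2) (hA a.2)).symm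
      have : (∑ e : E₀, cm ρ e a) = 0 := by
        by_contra h0
        exact hne₀ ((mul_eq_right₀ h0).mp hmul)
      rw [this, zero_mul]
  rw [Finset.sum_congr rfl fun a _ => hcol a, ← Finset.sum_filter, Finset.sum_const, nsmul_eq_mul] at htot
  have h1 : (1 : A) ∈ Finset.univ.filter fun a : A => ∀ e ∈ E₀, cm ρ e (a : G) = 1 := by
    simp only [Finset.mem_filter, Finset.mem_univ, true_and]
    intro e he
    exact cm_of_sc_right h (hE₀ he) E.one_mem (sc_one h)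
  rcases mul_eq_zero.mp htot with h0 | h0
  · exact Finset.card_ne_zero_of_mem h1 (by exact_mod_cast h0)
  · exact Fintype.card_ne_zero (α := E₀) (by exact_mod_cast h0)

/-- Averaging over a group of odd order. -/
theorem avg_mem (h : Heis E ρ) {K E₀ W : Subgroup G} (hK : Acts K E ρ) (hodd : Odd (Nat.card K))
    (hE₀ : E₀ ≤ E) (hnorm : ∀ k ∈ K, ∀ e ∈ E₀, k * e * k⁻¹ ∈ E₀)
    (hsc : ∀ s ∈ E₀, Sc ρ s → s ∈ W)
    (hfix : ∀ a ∈ E₀, (∀ k ∈ K, Sc ρ (a⁻¹ * (k * a * k⁻¹))) → a ∈ W)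
    {e : G} (he : e ∈ E₀) (hcoset : ∀ k ∈ K, e⁻¹ * (k * e * k⁻¹) ∈ W) : e ∈ W := by
  classical
  haveI : Fintype K := Fintype.ofFinite K
  let S : Subgroup E₀ := (scSub h).subgroupOf E₀
  have hS : ∀ x : E₀, x ∈ S ↔ Sc ρ (x : G) := fun x => by
    simp [S, Subgroup.mem_subgroupOf, mem_scSub, hE₀ x.2]
  have hcomm : ∀ a b : E₀, a * b * a⁻¹ * b⁻¹ ∈ S := fun a b =>
    (hS _).mpr (h.comm a (hE₀ a.2) b (hE₀ b.2))
  haveI : S.Normal := ⟨fun n hn g => by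
    rw [show g * n * g⁻¹ = (g * n * g⁻¹ * n⁻¹) * n by group]
    exact S.mul_mem (hcomm g n) hn⟩
  letI : CommGroup (E₀ ⧸ S) :=
    { (inferInstance : Group (E₀ ⧸ S)) with
      mul_comm := fun x y => by
        obtain ⟨a, rfl⟩ := QuotientGroup.mk_surjective x
        obtain ⟨b, rfl⟩ := QuotientGroup.mk_surjective y
        rw [← QuotientGroup.mk_mul, ← QuotientGroup.mk_mul, eq_comm, QuotientGroup.eq,
          show (b * a)⁻¹ * (a * b) = a⁻¹ * b⁻¹ * a⁻¹⁻¹ * b⁻¹⁻¹ by group]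
        exact hcomm a⁻¹ b⁻¹ }
  let c : K → (E₀ →* E₀) := fun k =>
    { toFun := fun a => ⟨(k : G) * a * (k : G)⁻¹, hnorm k k.2 a a.2⟩
      map_one' := by ext; simp
      map_mul' := fun a b => by ext; simp [mul_assoc] }
  have hcS : ∀ k : K, S ≤ S.comap (c k) := fun k a ha => by
    rw [Subgroup.mem_comap, hS]
    exact sc_conj h hK k.2 (hE₀ a.2) ((hS a).mp ha)
  let φ : K → (E₀ ⧸ S →* E₀ ⧸ S) := fun k => QuotientGroup.map S S (c k) (hcS k)
  let e' : E₀ := ⟨e, he⟩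
  obtain ⟨a, ha⟩ := QuotientGroup.mk_surjective (∏ k : K, φ k (e' : E₀ ⧸ S))
  have hafix : ∀ l : K, ((c l a : E₀) : E₀ ⧸ S) = (a : E₀ ⧸ S) := by
    intro l
    rw [show ((c l a : E₀) : E₀ ⧸ S) = φ l (a : E₀ ⧸ S) from rfl, ha, map_prod]
    refine Fintype.prod_equiv (Equiv.mulLeft l) _ _ fun k => ?_
    show ((c l (c k e') : E₀) : E₀ ⧸ S) = ((c (l * k) e' : E₀) : E₀ ⧸ S)
    congr 1
    ext
    simp [c, mul_assoc]
  have haW : (a : G) ∈ W := hfix a a.2 fun k hk => by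
    have h1 := (hafix ⟨k, hk⟩).symm
    rw [QuotientGroup.eq, hS] at h1
    exact h1
  let W' : Subgroup (E₀ ⧸ S) := (W.subgroupOf E₀).map (QuotientGroup.mk' S)
  have hWmem : ∀ x : E₀, (x : E₀ ⧸ S) ∈ W' ↔ (x : G) ∈ W := by
    intro x
    refine ⟨fun hx => ?_, fun hx => ⟨x, hx, rfl⟩⟩
    obtain ⟨y, hy, hyx⟩ := hx
    rw [QuotientGroup.mk'_apply, QuotientGroup.eq] at hyx
    have h1 := W.mul_mem (show (y : G) ∈ W from hy) (hsc _ (y⁻¹ * x).2 ((hS _).mp hyx))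
    rwa [Subgroup.coe_mul, Subgroup.coe_inv, mul_inv_cancel_left] at h1
  let π := QuotientGroup.mk' W'
  have hπk : ∀ k : K, π (φ k (e' : E₀ ⧸ S)) = π (e' : E₀ ⧸ S) := by
    intro k
    refine (QuotientGroup.eq.mpr ?_).symm
    show ((e'⁻¹ * c k e' : E₀) : E₀ ⧸ S) ∈ W'
    exact (hWmem _).mpr (hcoset k k.2)
  have hprod : π (e' : E₀ ⧸ S) ^ Fintype.card K = 1 := by
    have : π (∏ k : K, φ k (e' : E₀ ⧸ S)) = 1 := by
      rw [← ha]
      exact (QuotientGroup.eq_one_iff _).mpr ((hWmem a).mpr haW)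
    rw [map_prod, Finset.prod_congr rfl fun k _ => hπk k, Finset.prod_const, Finset.card_univ] at this
    exact this
  have hsq : π (e' : E₀ ⧸ S) ^ 2 = 1 := by
    rw [← map_pow, ← QuotientGroup.mk_pow, show ((e' ^ 2 : E₀) : E₀ ⧸ S) = 1 from
      (QuotientGroup.eq_one_iff _).mpr ((hS _).mpr (by rw [pow_two]; exact h.sq e (hE₀ he))), map_one]
  obtain ⟨m, hm⟩ := (Nat.card_eq_fintype_card (α := K) ▸ hodd : Odd (Fintype.card K))
  rw [hm, pow_succ, pow_mul, hsq, one_pow, one_mul] at hprod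
  exact (hWmem e').mp ((QuotientGroup.eq_one_iff _).mp hprod)

/-- An operator conjugating `ρ` to its translate. -/
theorem exists_intertwiner (h : Heis E ρ) {H : Subgroup G} (hH : Acts H E ρ) {g : G} (hg : g ∈ H) :
    ∃ J : Module.End ℂ V, IsUnit J ∧ ∀ e ∈ E, J * ρ e = ρ (g * e * g⁻¹) * J := by
  classical
  haveI : Fintype E := Fintype.ofFinite E
  let J : Module.End ℂ V → Module.End ℂ V := fun B => ∑ x : E, ρ (g * x * g⁻¹) * B * ρ (x : G)⁻¹
  have hJ : ∀ B, ∀ e ∈ E, J B * ρ e = ρ (g * e * g⁻¹) * J B := by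
    intro B e he
    simp only [J, Finset.sum_mul, Finset.mul_sum]
    refine Fintype.sum_equiv (Equiv.mulLeft (⟨e, he⟩⁻¹ : E)) _ _ fun x => ?_
    simp only [Equiv.coe_mulLeft, Subgroup.coe_mul, Subgroup.coe_inv]
    rw [mul_inv_rev, inv_inv, ← mul_assoc (ρ (g * e * g⁻¹)), ← mul_assoc (ρ (g * e * g⁻¹)),
      ← h.mul _ (hH.norm g hg e he) _ (hH.norm g hg _ (E.mul_mem (E.inv_mem he) x.2)),
      show g * e * g⁻¹ * (g * (e⁻¹ * (x : G)) * g⁻¹) = g * x * g⁻¹ by group,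
      h.mul _ (E.inv_mem x.2) _ he, mul_assoc, mul_assoc, mul_assoc]
  by_cases hne : ∃ B, J B ≠ 0
  · obtain ⟨B, hB⟩ := hne
    refine ⟨J B, ?_, hJ B⟩
    rw [LinearMap.isUnit_iff_ker_eq_bot]
    rcases h.irr (LinearMap.ker (J B)) (fun a ha v hv => by
      rw [LinearMap.mem_ker] at hv ⊢
      rw [← Module.End.mul_apply, hJ B a ha, Module.End.mul_apply, hv, map_zero]) with hb | ht
    · exact hb
    · exact absurd (LinearMap.ker_eq_top.mp ht) hB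
  · exfalso
    push Not at hne
    let b := Module.finBasis ℂ V
    have htr : ∀ f : Module.End ℂ V, LinearMap.trace ℂ V f = ∑ i, b.repr (f (b i)) i := fun f => by
      rw [LinearMap.trace_eq_matrix_trace ℂ b f]
      simp [Matrix.trace, LinearMap.toMatrix_apply]
    have hzero : ∀ i j, ∑ x : E, b.repr (ρ (x : G)⁻¹ (b j)) j * b.repr (ρ (g * x * g⁻¹) (b i)) i = 0 := by
      intro i j
      have h1 := congrArg (fun f : Module.End ℂ V => b.repr (f (b j)) i)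
        (hne ((b.coord j).smulRight (b i)))
      simpa [J, LinearMap.sum_apply, map_sum, Finsupp.finsetSum_apply] using h1
    have hsum : ∑ x : E, LinearMap.trace ℂ V (ρ (x : G)⁻¹) * LinearMap.trace ℂ V (ρ (g * x * g⁻¹)) = 0 := by
      simp only [htr, Finset.sum_mul_sum]
      rw [Finset.sum_comm]
      refine Finset.sum_eq_zero fun j _ => ?_
      rw [Finset.sum_comm]
      exact Finset.sum_eq_zero fun i _ => hzero i j
    have hterm : ∀ x : E, LinearMap.trace ℂ V (ρ (x : G)⁻¹) * LinearMap.trace ℂ V (ρ (g * x * g⁻¹)) =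
        if Sc ρ (x : G) then (finrank ℂ V : ℂ) ^ 2 else 0 := by
      intro x
      split_ifs with hx
      · rw [hH.fix g hg x x.2 hx, (hx.inv' h x.2).eq_scal h, hx.eq_scal h, map_smul, map_smul,
          LinearMap.trace_one, smul_eq_mul, smul_eq_mul]
        have h1 := mul_inv_self h x.2
        rw [(hx.inv' h x.2).eq_scal h, hx.eq_scal h, smul_mul_smul_comm, one_mul] at h1
        have h2 : scal ρ (x : G) * scal ρ (x : G)⁻¹ = 1 := smul_one_inj h (by rw [h1, one_smul])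
        linear_combination (finrank ℂ V : ℂ) ^ 2 * h2
      · rw [trace_eq_zero h (E.inv_mem x.2) (fun hs => hx (by simpa using hs.inv' h (E.inv_mem x.2))),
          zero_mul]
    rw [Finset.sum_congr rfl fun x _ => hterm x, ← Finset.sum_filter, Finset.sum_const, nsmul_eq_mul] at hsum
    have h1 : (1 : E) ∈ Finset.univ.filter fun x : E => Sc ρ (x : G) := by simp [sc_one h]
    rcases mul_eq_zero.mp hsum with h0 | h0
    · exact Finset.card_ne_zero_of_mem h1 (by exact_mod_cast h0)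
    · exact pow_ne_zero 2 (finrank_ne_zero h) h0

omit [Finite G] in
lemma intertwiner_unique (h : Heis E ρ) {g : G} {J J' : Module.End ℂ V} (hu : IsUnit J)
    (hJ : ∀ e ∈ E, J * ρ e = ρ (g * e * g⁻¹) * J) (hJ' : ∀ e ∈ E, J' * ρ e = ρ (g * e * g⁻¹) * J') :
    ∃ c : ℂ, J' = c • J := by
  obtain ⟨u, rfl⟩ := hu
  obtain ⟨c, hc⟩ := exists_scalar h ((↑u⁻¹ : Module.End ℂ V) * J') fun a ha => by
    have h1 : (↑u⁻¹ : Module.End ℂ V) * ρ (g * a * g⁻¹) = ρ a * ↑u⁻¹ := by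
      rw [Units.eq_mul_inv_iff_mul_eq, mul_assoc, ← hJ a ha, ← mul_assoc, Units.inv_mul, one_mul]
    rw [mul_assoc, hJ' a ha, ← mul_assoc, h1, mul_assoc]
  refine ⟨c, ?_⟩
  rw [Units.inv_mul_eq_iff_eq_mul] at hc
  rw [hc, mul_smul_comm, mul_one]

end Cfsg.Agent.HeisenbergLift
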