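/-
Reduction of the lifting problem along an invariant isotropic subgroup.
-/
import Cfsg.Agent.Lib.HeisenbergLift.Basic

set_option autoImplicit false
set_option linter.style.haveILetI false
set_option linter.unusedSectionVars false

namespace Cfsg.Agent.HeisenbergLift

open Module

variable {G : Type*} [Group G] {V : Type*} [AddCommGroup V] [Module ℂ V]

open Classical in
/-- The restriction of `ρ` to a subspace. -/
noncomputable def res (U : Submodule ℂ V) (ρ : G → Module.End ℂ V) (x : G) : Module.End ℂ U :=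
  if h : ∀ v ∈ U, ρ x v ∈ U then (ρ x).restrict h else 0

lemma res_apply {U : Submodule ℂ V} {ρ : G → Module.End ℂ V} {x : G} (h : ∀ v ∈ U, ρ x v ∈ U) (u : U) :
    ((res U ρ x u : U) : V) = ρ x (u : V) := by
  rw [res, dif_pos h]; rfl

lemma res_smul_one {U : Submodule ℂ V} {ρ : G → Module.End ℂ V} {x : G} {c : ℂ} (hc : ρ x = c • 1) :
    res U ρ x = c • 1 := by
  refine LinearMap.ext fun u => Subtype.ext ?_
  rw [res_apply (fun v hv => by rw [hc]; exact U.smul_mem c hv), hc]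
  rfl

variable [FiniteDimensional ℂ V] {E : Subgroup G} {ρ : G → Module.End ℂ V}

/-- The restriction to an invariant subspace irreducible under a subgroup. -/
lemma heis_res (h : Heis E ρ) {E' : Subgroup G} (hle : E' ≤ E) {U : Submodule ℂ V}
    (hU : ∀ a ∈ E', ∀ v ∈ U, ρ a v ∈ U)
    (hirr : ∀ W : Submodule ℂ V, W ≤ U → (∀ a ∈ E', ∀ v ∈ W, ρ a v ∈ W) → W = ⊥ ∨ W = U)
    (hne : U ≠ ⊥) : Heis E' (res U ρ) where
  one := by rw [res_smul_one (U := U) (c := 1) (by rw [h.one, one_smul]), one_smul]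
  mul := fun a ha b hb => LinearMap.ext fun u => Subtype.ext (by
    rw [res_apply (hU _ (E'.mul_mem ha hb)), Module.End.mul_apply, res_apply (hU a ha),
      res_apply (hU b hb), h.mul a (hle ha) b (hle hb)]
    rfl)
  comm := fun a ha b hb => by
    obtain ⟨c, hc⟩ := h.comm a (hle ha) b (hle hb)
    exact ⟨c, res_smul_one hc⟩
  sq := fun a ha => by
    obtain ⟨c, hc⟩ := h.sq a (hle ha)
    exact ⟨c, res_smul_one hc⟩
  irr := fun W hW => by
    rcases hirr (W.map U.subtype) (Submodule.map_subtype_le U W) (fun a ha v hv => by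
      obtain ⟨w, hw, rfl⟩ := hv
      exact ⟨res U ρ a w, hW a ha w hw, res_apply (hU a ha) w⟩) with h0 | h0
    · left
      exact Submodule.map_injective_of_injective U.injective_subtype (by rw [h0, Submodule.map_bot])
    · right
      exact Submodule.map_injective_of_injective U.injective_subtype (by rw [h0, Submodule.map_subtype_top])
  nontrivial := Submodule.nontrivial_iff_ne_bot.mpr hne

/-- A common eigenvector of pairwise commuting operators. -/
lemma exists_common_eigen (h : Heis E ρ) {A : Subgroup G} (hA : A ≤ E)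
    (hcomm : ∀ a ∈ A, ∀ b ∈ A, cm ρ a b = 1) :
    ∃ (lam : G → ℂ) (v : V), v ≠ 0 ∧ ∀ a ∈ A, ρ a v = lam a • v := by
  classical
  haveI := h.nontrivial
  have hex : ∃ n, ∃ W : Submodule ℂ V, W ≠ ⊥ ∧ (∀ a ∈ A, ∀ v ∈ W, ρ a v ∈ W) ∧ finrank ℂ W = n :=
    ⟨_, ⊤, top_ne_bot, fun _ _ _ _ => Submodule.mem_top, rfl⟩
  obtain ⟨W, hW0, hWi, hWn⟩ := Nat.find_spec hex
  have hscal : ∀ a ∈ A, ∃ c : ℂ, ∀ v ∈ W, ρ a v = c • v := by
    intro a ha
    haveI : Nontrivial W := Submodule.nontrivial_iff_ne_bot.mpr hW0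
    obtain ⟨c, hc⟩ := Module.End.exists_eigenvalue ((ρ a).restrict (hWi a ha))
    obtain ⟨w, hw, hw0⟩ := hc.exists_hasEigenvector
    rw [Module.End.mem_eigenspace_iff] at hw
    let W' := W ⊓ Module.End.eigenspace (ρ a) c
    have hmem : (w : V) ∈ W' := ⟨w.2, Module.End.mem_eigenspace_iff.mpr (congrArg Subtype.val hw)⟩
    have hW'0 : W' ≠ ⊥ := fun e => hw0 (Subtype.ext (by rw [e] at hmem; exact hmem))
    have hW'i : ∀ b ∈ A, ∀ v ∈ W', ρ b v ∈ W' := by
      intro b hb v hv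
      refine ⟨hWi b hb v hv.1, Module.End.mem_eigenspace_iff.mpr ?_⟩
      rw [← Module.End.mul_apply, (commute_iff h (hA ha) (hA hb)).mp (hcomm a ha b hb), Module.End.mul_apply,
        Module.End.mem_eigenspace_iff.mp hv.2, map_smul]
    have hge := Nat.find_min' hex ⟨W', hW'0, hW'i, rfl⟩
    rw [← hWn] at hge
    have heq : W' = W := Submodule.eq_of_le_of_finrank_le inf_le_left hge
    exact ⟨c, fun v hv => Module.End.mem_eigenspace_iff.mp ((heq ▸ hv : v ∈ W')).2⟩
  obtain ⟨v, hvW, hv0⟩ := Submodule.exists_mem_ne_zero_of_ne_bot hW0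
  choose! c hc using hscal
  exact ⟨c, v, hv0, fun a ha => hc a ha v hvW⟩

variable [Finite G]

/-- A character of an isotropic subgroup which is fixed by `K`, with an eigenvector. -/
lemma exists_fixed_character (h : Heis E ρ) {K A : Subgroup G} (hK : Acts K E ρ)
    (hodd : Odd (Nat.card K)) (hA : A ≤ E) (hKA : ∀ k ∈ K, ∀ a ∈ A, k * a * k⁻¹ ∈ A)
    (hcomm : ∀ a ∈ A, ∀ b ∈ A, cm ρ a b = 1) :
    ∃ (lam : G → ℂ) (v : V), v ≠ 0 ∧ (∀ a ∈ A, ρ a v = lam a • v) ∧
      ∀ k ∈ K, ∀ a ∈ A, lam (k * a * k⁻¹) = lam a := by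
  classical
  obtain ⟨l₀, v, hv, hl⟩ := exists_common_eigen h hA hcomm
  have hl_ne : ∀ a ∈ A, l₀ a ≠ 0 := fun a ha e => apply_ne_zero h (hA ha) hv (by rw [hl a ha, e, zero_smul])
  have hl_mul : ∀ a ∈ A, ∀ b ∈ A, l₀ (a * b) = l₀ a * l₀ b := fun a ha b hb =>
    smul_left_injective ℂ hv (by
      show l₀ (a * b) • v = (l₀ a * l₀ b) • v
      rw [← hl _ (A.mul_mem ha hb), h.mul a (hA ha) b (hA hb), Module.End.mul_apply, hl b hb, map_smul,
        hl a ha, smul_smul, mul_comm])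
  have hl_sc : ∀ a ∈ A, Sc ρ a → l₀ a = scal ρ a := fun a ha hs => smul_left_injective ℂ hv (by
    show l₀ a • v = scal ρ a • v
    rw [← hl a ha, hs.eq_scal h]; rfl)
  let d : G → G → ℂ := fun k a => l₀ (k * a * k⁻¹) * (l₀ a)⁻¹
  have hd_sq : ∀ k ∈ K, ∀ a ∈ A, d k a * d k a = 1 := by
    intro k hk a ha
    have h1 : l₀ (k * a * k⁻¹) * l₀ (k * a * k⁻¹) = l₀ a * l₀ a := by
      rw [← hl_mul a ha a ha, ← hl_mul _ (hKA k hk a ha) _ (hKA k hk a ha),
        show k * a * k⁻¹ * (k * a * k⁻¹) = k * (a * a) * k⁻¹ by group,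
        hl_sc _ (hKA k hk _ (A.mul_mem ha ha)) (sc_conj h hK hk (E.mul_mem (hA ha) (hA ha)) (h.sq a (hA ha))),
        hl_sc _ (A.mul_mem ha ha) (h.sq a (hA ha))]
      simp only [scal, hK.fix k hk _ (E.mul_mem (hA ha) (hA ha)) (h.sq a (hA ha))]
    have := hl_ne a ha
    simp only [d]
    field_simp
    linear_combination h1
  have hd_mul : ∀ k ∈ K, ∀ a ∈ A, ∀ b ∈ A, d k (a * b) = d k a * d k b := by
    intro k hk a ha b hb
    simp only [d]
    rw [show k * (a * b) * k⁻¹ = (k * a * k⁻¹) * (k * b * k⁻¹) by group,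
      hl_mul _ (hKA k hk a ha) _ (hKA k hk b hb), hl_mul a ha b hb, mul_inv]
    ring
  have hd_sc : ∀ k ∈ K, ∀ a ∈ A, Sc ρ a → d k a = 1 := by
    intro k hk a ha hs
    simp only [d]
    rw [hl_sc _ (hKA k hk a ha) (sc_conj h hK hk (hA ha) hs), scal, hK.fix k hk a (hA ha) hs, ← scal,
      ← hl_sc a ha hs, mul_inv_cancel₀ (hl_ne a ha)]
  haveI : Fintype K := Fintype.ofFinite K
  let D : G → ℂ := fun a => ∏ k : K, d k a
  obtain ⟨e, he, hDe⟩ := exists_cm_eq h le_rfl hA D
    (fun a ha b hb => by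
      simp only [D, ← Finset.prod_mul_distrib]
      exact Finset.prod_congr rfl fun k _ => hd_mul k k.2 a ha b hb)
    (fun a ha hall => Finset.prod_eq_one fun k _ => hd_sc k k.2 a ha
      (sc_of_forall_cm h (hA ha) fun b hb => by rw [cm_symm h (hA ha) hb]; exact hall b hb))
  refine ⟨fun a => l₀ a * D a, ρ e v, apply_ne_zero h he hv, fun a ha => ?_, fun g hg a ha => ?_⟩
  · rw [← Module.End.mul_apply, comm_eq h (hA ha) he, LinearMap.smul_apply, Module.End.mul_apply, hl a ha,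
      map_smul, smul_smul, cm_symm h (hA ha) he, hDe a ha, mul_comm]
  · have h1 : ∀ k : K, d k (g * a * g⁻¹) = d (k * ⟨g, hg⟩ : K) a * d g a := by
      intro k
      have hinv : (d g a)⁻¹ = d g a := inv_eq_of_mul_eq_one_right (hd_sq g hg a ha)
      rw [← hinv]
      simp only [d, Subgroup.coe_mul]
      rw [show (k : G) * (g * a * g⁻¹) * (k : G)⁻¹ = (k : G) * g * a * ((k : G) * g)⁻¹ by group]
      have := hl_ne a ha
      have := hl_ne _ (hKA g hg a ha)
      field_simp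
    have h2 : D (g * a * g⁻¹) = D a * d g a := by
      simp only [D]
      rw [Finset.prod_congr rfl fun k _ => h1 k, Finset.prod_mul_distrib,
        Fintype.prod_equiv (Equiv.mulRight (⟨g, hg⟩ : K)) (fun k => d ((k * ⟨g, hg⟩ : K) : G) a)
          (fun k => d (k : G) a) (fun k => rfl), Finset.prod_const, Finset.card_univ]
      congr 1
      obtain ⟨m, hm⟩ := (Nat.card_eq_fintype_card (α := K) ▸ hodd : Odd (Fintype.card K))
      rw [hm, pow_succ, pow_mul, pow_two, hd_sq g hg a ha, one_pow, one_mul]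
    show l₀ (g * a * g⁻¹) * D (g * a * g⁻¹) = l₀ a * D a
    rw [h2, show l₀ (g * a * g⁻¹) = d g a * l₀ a from by simp [d, hl_ne a ha],
      show d g a * l₀ a * (D a * d g a) = d g a * d g a * (l₀ a * D a) by ring, hd_sq g hg a ha, one_mul]

/-- Reduction along an invariant isotropic subgroup. -/
theorem lifts_of_isotropic (h : Heis E ρ) {T K : Subgroup G} (hT : Acts T E ρ) (hK : Acts K E ρ)
    (hTK : ∀ t ∈ T, ∀ k ∈ K, t * k * t⁻¹ ∈ K) (hodd : Odd (Nat.card K)) (hfpf : Fpf K E ρ)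
    {A : Subgroup G} (hA : A ≤ E) (hTA : ∀ t ∈ T, ∀ a ∈ A, t * a * t⁻¹ ∈ A)
    (hKA : ∀ k ∈ K, ∀ a ∈ A, k * a * k⁻¹ ∈ A) (hne : ∃ a ∈ A, ¬ Sc ρ a)
    (hcomm : ∀ a ∈ A, ∀ b ∈ A, cm ρ a b = 1)
    (hrec : ∀ (U : Submodule ℂ V) (E' : Subgroup G) (ρ' : G → Module.End ℂ U),
      Nat.card E' < Nat.card E → Heis E' ρ' → Acts T E' ρ' → Acts K E' ρ' → Fpf K E' ρ' →
      Lifts T E' ρ') :
    Lifts T E ρ := by
  classical
  obtain ⟨lam, v₀, hv₀, hlam, hlamK⟩ := exists_fixed_character h hK hodd hA hKA hcomm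
  have hlne : ∀ a ∈ A, lam a ≠ 0 := fun a ha e =>
    apply_ne_zero h (hA ha) hv₀ (by rw [hlam a ha, e, zero_smul])
  have hlmul : ∀ a ∈ A, ∀ b ∈ A, lam (a * b) = lam a * lam b := fun a ha b hb =>
    smul_left_injective ℂ hv₀ (by
      show lam (a * b) • v₀ = (lam a * lam b) • v₀
      rw [← hlam _ (A.mul_mem ha hb), h.mul a (hA ha) b (hA hb), Module.End.mul_apply, hlam b hb, map_smul,
        hlam a ha, smul_smul, mul_comm])
  have hlsc : ∀ a ∈ A, Sc ρ a → lam a = scal ρ a := fun a ha hs => smul_left_injective ℂ hv₀ (by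
    show lam a • v₀ = scal ρ a • v₀
    rw [← hlam a ha, hs.eq_scal h]; rfl)
  -- `T` fixes the character
  have hlamT : ∀ t ∈ T, ∀ a ∈ A, lam (t * a * t⁻¹) = lam a := by
    intro t ht
    let W : Subgroup G :=
      { carrier := {a | a ∈ A ∧ lam (t * a * t⁻¹) = lam a}
        one_mem' := ⟨A.one_mem, by rw [mul_one, mul_inv_cancel]⟩
        mul_mem' := fun {a b} ha hb => ⟨A.mul_mem ha.1 hb.1, by
          rw [show t * (a * b) * t⁻¹ = (t * a * t⁻¹) * (t * b * t⁻¹) by group,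
            hlmul _ (hTA t ht a ha.1) _ (hTA t ht b hb.1), ha.2, hb.2, hlmul a ha.1 b hb.1]⟩
        inv_mem' := fun {a} ha => ⟨A.inv_mem ha.1, by
          have h1 : lam 1 = 1 := by
            have := hlmul 1 A.one_mem 1 A.one_mem
            rw [mul_one] at this
            exact (mul_eq_left₀ (hlne 1 A.one_mem)).mp this.symm
          have h2 := hlmul _ (hTA t ht _ (A.inv_mem ha.1)) _ (hTA t ht a ha.1)
          have h3 := hlmul _ (A.inv_mem ha.1) a ha.1
          rw [show t * a⁻¹ * t⁻¹ * (t * a * t⁻¹) = 1 by group, h1, ha.2] at h2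
          rw [inv_mul_cancel, h1] at h3
          exact mul_right_cancel₀ (hlne a ha.1) (h2.symm.trans h3)⟩ }
    intro a ha
    refine (avg_mem h hK hodd hA hKA (W := W) (fun s hs hsc => ⟨hs, ?_⟩)
      (fun b hb hall => ⟨hb, ?_⟩) ha (fun k hk => ⟨A.mul_mem (A.inv_mem ha) (hKA k hk a ha), ?_⟩)).2
    · rw [hlsc _ (hTA t ht s hs) (sc_conj h hT ht (hA hs) hsc), hlsc s hs hsc, scal,
        hT.fix t ht s (hA hs) hsc, scal]
    · have hsc := hfpf b (hA hb) hall
      rw [hlsc _ (hTA t ht b hb) (sc_conj h hT ht (hA hb) hsc), hlsc b hb hsc, scal,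
        hT.fix t ht b (hA hb) hsc, scal]
    · have hk' := hTK t ht k hk
      rw [show t * (a⁻¹ * (k * a * k⁻¹)) * t⁻¹ =
          (t * a⁻¹ * t⁻¹) * ((t * k * t⁻¹) * (t * a * t⁻¹) * (t * k * t⁻¹)⁻¹) by group,
        hlmul _ (hTA t ht _ (A.inv_mem ha)) _ (hKA _ hk' _ (hTA t ht a ha)), hlamK _ hk' _ (hTA t ht a ha),
        ← hlmul _ (hTA t ht _ (A.inv_mem ha)) _ (hTA t ht a ha),
        hlmul _ (A.inv_mem ha) _ (hKA k hk a ha), hlamK k hk a ha, ← hlmul _ (A.inv_mem ha) a ha,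
        show t * a⁻¹ * t⁻¹ * (t * a * t⁻¹) = a⁻¹ * a by group]
  let U : Submodule ℂ V :=
    { carrier := {v | ∀ a ∈ A, ρ a v = lam a • v}
      zero_mem' := fun a _ => by rw [map_zero, smul_zero]
      add_mem' := fun {x y} hx hy a ha => by rw [map_add, hx a ha, hy a ha, smul_add]
      smul_mem' := fun c x hx a ha => by rw [map_smul, hx a ha, smul_comm] }
  have hU0 : U ≠ ⊥ := fun e => hv₀ (by
    have : v₀ ∈ U := hlam
    rw [e] at this; exact this)
  let E' : Subgroup G :=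
    { carrier := {e | e ∈ E ∧ ∀ a ∈ A, cm ρ e a = 1}
      one_mem' := ⟨E.one_mem, fun a ha => cm_of_sc_left h E.one_mem (hA ha) (sc_one h)⟩
      mul_mem' := fun {x y} hx hy => ⟨E.mul_mem hx.1 hy.1, fun a ha => by
        rw [cm_mul_left h hx.1 hy.1 (hA ha), hx.2 a ha, hy.2 a ha, one_mul]⟩
      inv_mem' := fun {x} hx => ⟨E.inv_mem hx.1, fun a ha => by
        have := cm_mul_left h (E.inv_mem hx.1) hx.1 (hA ha)
        rw [inv_mul_cancel, cm_of_sc_left h E.one_mem (hA ha) (sc_one h), hx.2 a ha, mul_one] at this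
        exact this.symm⟩ }
  have hE'le : E' ≤ E := fun e he => he.1
  have hE'U : ∀ e ∈ E', ∀ v ∈ U, ρ e v ∈ U := fun e he v hv a ha => by
    rw [← Module.End.mul_apply, (commute_iff h (hA ha) he.1).mp (by
      rw [cm_symm h (hA ha) he.1]; exact he.2 a ha), Module.End.mul_apply, hv a ha, map_smul]
  haveI : Fintype A := Fintype.ofFinite A
  have hirr : ∀ W : Submodule ℂ V, W ≤ U → (∀ a ∈ E', ∀ v ∈ W, ρ a v ∈ W) → W = ⊥ ∨ W = U := by
    intro W hWU hWi
    by_cases hW0 : W = ⊥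
    · exact Or.inl hW0
    right
    refine le_antisymm hWU fun u hu => ?_
    let big : Submodule ℂ V := Submodule.span ℂ {x | ∃ e ∈ E, ∃ w ∈ W, x = ρ e w}
    have hbig : big = ⊤ := by
      refine (h.irr big fun b hb x hx => ?_).resolve_left fun e => hW0 ?_
      · induction hx using Submodule.span_induction with
        | mem x hx =>
          obtain ⟨e, he, w, hw, rfl⟩ := hx
          exact Submodule.subset_span ⟨b * e, E.mul_mem hb he, w, hw, by rw [h.mul b hb e he]; rfl⟩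
        | zero => rw [map_zero]; exact big.zero_mem
        | add x y _ _ hx hy => rw [map_add]; exact big.add_mem hx hy
        | smul c x _ hx => rw [map_smul]; exact big.smul_mem c hx
      · rw [eq_bot_iff]
        intro w hw
        rw [← e]
        exact Submodule.subset_span ⟨1, E.one_mem, w, hw, by rw [h.one]; rfl⟩
    let Q : Module.End ℂ V := ∑ a : A, (lam a)⁻¹ • ρ (a : G)
    have hQu : Q u = (Fintype.card A : ℂ) • u := by
      simp only [Q, LinearMap.sum_apply, LinearMap.smul_apply]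
      rw [Finset.sum_congr rfl fun (a : A) _ => show (lam a)⁻¹ • ρ (a : G) u = u by
        rw [hu a a.2, smul_smul, inv_mul_cancel₀ (hlne a a.2), one_smul], Finset.sum_const,
        Finset.card_univ, Nat.cast_smul_eq_nsmul ℂ]
    have hQW : ∀ x ∈ big, Q x ∈ W := by
      intro x hx
      induction hx using Submodule.span_induction with
      | mem x hx =>
        obtain ⟨e, he, w, hw, rfl⟩ := hx
        have hterm : ∀ a : A, (lam a)⁻¹ • ρ (a : G) (ρ e w) = cm ρ e a • ρ e w := by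
          intro a
          rw [← Module.End.mul_apply, comm_eq h (hA a.2) he, LinearMap.smul_apply, Module.End.mul_apply,
            hWU hw a a.2, map_smul, smul_smul, smul_smul, cm_symm h (hA a.2) he]
          congr 1
          field_simp [hlne a a.2]
        simp only [Q, LinearMap.sum_apply, LinearMap.smul_apply]
        rw [Finset.sum_congr rfl fun a _ => hterm a, ← Finset.sum_smul]
        by_cases heE : ∀ a ∈ A, cm ρ e a = 1
        · exact W.smul_mem _ (hWi e ⟨he, heE⟩ w hw)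
        · push Not at heE
          obtain ⟨a₀, ha₀, hne₀⟩ := heE
          have hmul : cm ρ e a₀ * (∑ a : A, cm ρ e (a : G)) = ∑ a : A, cm ρ e (a : G) := by
            rw [Finset.mul_sum]
            refine Fintype.sum_equiv (Equiv.mulLeft (⟨a₀, ha₀⟩ : A)) _ _ fun a => ?_
            exact (cm_mul_right h he (hA ha₀) (hA a.2)).symm
          have : (∑ a : A, cm ρ e (a : G)) = 0 := by
            by_contra h0
            exact hne₀ ((mul_eq_right₀ h0).mp hmul)
          rw [this, zero_smul]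
          exact W.zero_mem
      | zero => rw [map_zero]; exact W.zero_mem
      | add x y _ _ hx hy => rw [map_add]; exact W.add_mem hx hy
      | smul c x _ hx => rw [map_smul]; exact W.smul_mem c hx
    have h1 := hQW u (by rw [hbig]; trivial)
    rw [hQu] at h1
    simpa using W.smul_mem ((Fintype.card A : ℂ)⁻¹) h1
  have hρ' := heis_res h hE'le hE'U hirr hU0
  -- intertwiners preserve the eigenspace
  have hJU : ∀ g : G, (∀ a ∈ A, g⁻¹ * a * g ∈ A ∧ lam (g⁻¹ * a * g) = lam a) → ∀ J : Module.End ℂ V,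
      (∀ e ∈ E, J * ρ e = ρ (g * e * g⁻¹) * J) → ∀ u ∈ U, J u ∈ U := by
    intro g hg J hJ u hu a ha
    obtain ⟨hmem, heq⟩ := hg a ha
    have h1 := LinearMap.congr_fun (hJ _ (hA hmem)) u
    rw [Module.End.mul_apply, Module.End.mul_apply, show g * (g⁻¹ * a * g) * g⁻¹ = a by group,
      hu _ hmem, heq, map_smul] at h1
    exact h1.symm
  have hinvT : ∀ t ∈ T, ∀ a ∈ A, t⁻¹ * a * t ∈ A ∧ lam (t⁻¹ * a * t) = lam a := fun t ht a ha => by
    have := hTA _ (T.inv_mem ht) a ha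
    have h2 := hlamT _ (T.inv_mem ht) a ha
    rw [inv_inv] at this h2
    exact ⟨this, h2⟩
  have hinvK : ∀ t ∈ K, ∀ a ∈ A, t⁻¹ * a * t ∈ A ∧ lam (t⁻¹ * a * t) = lam a := fun t ht a ha => by
    have := hKA _ (K.inv_mem ht) a ha
    have h2 := hlamK _ (K.inv_mem ht) a ha
    rw [inv_inv] at this h2
    exact ⟨this, h2⟩
  have hactsres : ∀ H : Subgroup G, Acts H E ρ →
      (∀ t ∈ H, ∀ a ∈ A, t⁻¹ * a * t ∈ A ∧ lam (t⁻¹ * a * t) = lam a) → Acts H E' (res U ρ) := by
    intro H hH hinv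
    have hnorm : ∀ g ∈ H, ∀ e ∈ E', g * e * g⁻¹ ∈ E' := fun g hg e he =>
      ⟨hH.norm g hg e he.1, fun a ha => by
        have hmem := (hinv g hg a ha).1
        have := cm_conj h hH hg he.1 (hA hmem)
        rw [show g * (g⁻¹ * a * g) * g⁻¹ = a by group, he.2 _ hmem] at this
        exact this⟩
    refine ⟨hnorm, fun g hg s hs hsc => ?_⟩
    obtain ⟨c, hc⟩ := hsc
    obtain ⟨J, hJu, hJ⟩ := exists_intertwiner h hH hg
    have hmap := hJU g (hinv g hg) J hJ
    have hinj : Function.Injective (J.restrict hmap) := fun x y hxy => Subtype.ext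
      ((Module.End.isUnit_iff J).mp hJu |>.1 (congrArg Subtype.val hxy))
    have hsurj := LinearMap.surjective_of_injective hinj
    refine LinearMap.ext fun w => ?_
    obtain ⟨u, rfl⟩ := hsurj w
    rw [hc]
    refine Subtype.ext ?_
    rw [res_apply (hE'U _ (hnorm g hg s hs))]
    have h1 := LinearMap.congr_fun (hJ s hs.1) (u : V)
    rw [Module.End.mul_apply, Module.End.mul_apply] at h1
    show ρ (g * s * g⁻¹) (J u) = _
    rw [← h1, ← res_apply (hE'U s hs) u, hc]
    simp [LinearMap.restrict_apply]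
  have hTE' := hactsres T hT hinvT
  have hKE' := hactsres K hK hinvK
  have hfpf' : Fpf K E' (res U ρ) := by
    intro e he hall
    refine (avg_mem h hK hodd hE'le hKE'.norm (W := scSub hρ') (fun s hs hsc => ⟨hs, ?_⟩)
      (fun b hb hb' => ⟨hb, ?_⟩) he (fun k hk => ⟨E'.mul_mem (E'.inv_mem he) (hKE'.norm k hk e he), hall k hk⟩)).2
    · exact ⟨_, res_smul_one (hsc.eq_scal h)⟩
    · exact ⟨_, res_smul_one ((hfpf b (hE'le hb) hb').eq_scal h)⟩
  have hlt : Nat.card E' < Nat.card E := by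
    refine lt_of_le_of_ne (Subgroup.card_le_of_le hE'le) fun e => ?_
    obtain ⟨a, ha, hns⟩ := hne
    obtain ⟨b, hb, hne'⟩ := exists_cm_ne_one h (hA ha) hns
    have hbE' : b ∈ E' := by rw [Subgroup.eq_of_le_of_card_ge hE'le e.ge]; exact hb
    exact hne' (by rw [cm_symm h (hA ha) hb]; exact hbE'.2 a ha)
  obtain ⟨R', hR'1, hR'mul, hR'⟩ := hrec U E' (res U ρ) hlt hρ' hTE' hKE' hfpf'
  have hR'unit : ∀ t ∈ T, IsUnit (R' t) := fun t ht =>
    ⟨⟨R' t, R' t⁻¹, by rw [← hR'mul t ht _ (T.inv_mem ht), mul_inv_cancel, hR'1],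
      by rw [← hR'mul _ (T.inv_mem ht) t ht, inv_mul_cancel, hR'1]⟩, rfl⟩
  -- lift
  let P : G → Module.End ℂ V → Prop := fun t X =>
    (∀ e ∈ E, X * ρ e = ρ (t * e * t⁻¹) * X) ∧ ∀ u : U, X (u : V) = ((R' t u : U) : V)
  have hPex : ∀ t ∈ T, ∃ X, IsUnit X ∧ P t X := by
    intro t ht
    obtain ⟨J, hJu, hJ⟩ := exists_intertwiner h hT ht
    have hmap := hJU t (hinvT t ht) J hJ
    have hJ'u : IsUnit (J.restrict hmap) := by
      rw [LinearMap.isUnit_iff_ker_eq_bot, LinearMap.ker_eq_bot]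
      exact fun x y hxy => Subtype.ext ((Module.End.isUnit_iff J).mp hJu |>.1 (congrArg Subtype.val hxy))
    obtain ⟨c, hc⟩ := intertwiner_unique hρ' hJ'u (fun e he => LinearMap.ext fun u => Subtype.ext (by
      simp only [Module.End.mul_apply]
      rw [res_apply (hE'U _ (hTE'.norm t ht e he))]
      show J ((res U ρ e u : U) : V) = ρ (t * e * t⁻¹) (J u)
      rw [res_apply (hE'U e he), ← Module.End.mul_apply, hJ e he.1, Module.End.mul_apply])) (hR' t ht)
    haveI : Nontrivial U := hρ'.nontrivial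
    have hc0 : c ≠ 0 := fun e => (hR'unit t ht).ne_zero (by rw [hc, e, zero_smul])
    refine ⟨c • J, ?_, fun e he => by rw [smul_mul_assoc, hJ e he, mul_smul_comm], fun u => by rw [hc]; rfl⟩
    exact (hJu.smul (Units.mk0 c hc0))
  choose! X hX using hPex
  have huniq : ∀ t ∈ T, ∀ Y, P t Y → Y = X t := by
    intro t ht Y hY
    obtain ⟨c, hc⟩ := intertwiner_unique h (hX t ht).1 (hX t ht).2.1 hY.1
    obtain ⟨u, hu⟩ := Submodule.exists_mem_ne_zero_of_ne_bot hU0
    have h1 := hY.2 ⟨u, hu.1⟩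
    rw [hc, LinearMap.smul_apply, (hX t ht).2.2 ⟨u, hu.1⟩] at h1
    have h2 : ((R' t ⟨u, hu.1⟩ : U) : V) ≠ 0 := by
      intro h0
      have := (Module.End.isUnit_iff _).mp (hR'unit t ht) |>.1
        (a₁ := ⟨u, hu.1⟩) (a₂ := 0) (by rw [map_zero]; exact Subtype.ext h0)
      exact hu.2 (congrArg Subtype.val this)
    rw [hc, show c = 1 from smul_left_injective ℂ h2 (h1.trans (one_smul ℂ _).symm), one_smul]
  refine ⟨X, (huniq 1 T.one_mem 1 ⟨fun e _ => by simp, fun u => by rw [hR'1]; rfl⟩).symm,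
    fun s hs t ht => (huniq _ (T.mul_mem hs ht) _ ⟨fun e he => ?_, fun u => ?_⟩).symm,
    fun t ht => (hX t ht).2.1⟩
  · rw [mul_assoc, (hX t ht).2.1 e he, ← mul_assoc, (hX s hs).2.1 _ (hT.norm t ht e he), mul_assoc,
      show s * (t * e * t⁻¹) * s⁻¹ = s * t * e * (s * t)⁻¹ by group]
  · rw [Module.End.mul_apply, (hX t ht).2.2 u, (hX s hs).2.2 _, hR'mul s hs t ht]
    rfl

end Cfsg.Agent.HeisenbergLift
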