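/-
Reduction of the lifting problem along an orthogonal decomposition, also with two parts swapped
by the acting group (tensor induction of index two).
-/
import Cfsg.Agent.Lib.HeisenbergLift.Isotropic

set_option autoImplicit false
set_option linter.style.haveILetI false
set_option linter.unusedSectionVars false

namespace Cfsg.Agent.HeisenbergLift

open Module

variable {G : Type*} [Group G] {V : Type*} [AddCommGroup V] [Module ℂ V] [FiniteDimensional ℂ V]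
  {E : Subgroup G} {ρ : G → Module.End ℂ V}

/-- In two commuting generating parts every element is a product, as an operator. -/
lemma decomp (h : Heis E ρ) {E₁ E₂ : Subgroup G} (h1 : E₁ ≤ E) (h2 : E₂ ≤ E) (hgen : E ≤ E₁ ⊔ E₂)
    (hcom : ∀ a ∈ E₁, ∀ b ∈ E₂, cm ρ a b = 1) {e : G} (he : e ∈ E) :
    ∃ a ∈ E₁, ∃ b ∈ E₂, ρ e = ρ a * ρ b := by
  have hc : ∀ a ∈ E₁, ∀ b ∈ E₂, ρ b * ρ a = ρ a * ρ b := fun a ha b hb =>
    ((commute_iff h (h1 ha) (h2 hb)).mp (hcom a ha b hb)).symm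
  let D : Subgroup G :=
    { carrier := {x | x ∈ E ∧ ∃ a ∈ E₁, ∃ b ∈ E₂, ρ x = ρ a * ρ b}
      one_mem' := ⟨E.one_mem, 1, E₁.one_mem, 1, E₂.one_mem, by rw [h.one, mul_one]⟩
      mul_mem' := fun {x y} hx hy => by
        obtain ⟨hx, a, ha, b, hb, hab⟩ := hx
        obtain ⟨hy, a', ha', b', hb', hab'⟩ := hy
        refine ⟨E.mul_mem hx hy, a * a', E₁.mul_mem ha ha', b * b', E₂.mul_mem hb hb', ?_⟩
        rw [h.mul x hx y hy, hab, hab', h.mul a (h1 ha) a' (h1 ha'), h.mul b (h2 hb) b' (h2 hb'),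
          mul_assoc, ← mul_assoc (ρ b), hc a' ha' b hb]
        simp only [mul_assoc]
      inv_mem' := fun {x} hx => by
        obtain ⟨hx, a, ha, b, hb, hab⟩ := hx
        refine ⟨E.inv_mem hx, a⁻¹, E₁.inv_mem ha, b⁻¹, E₂.inv_mem hb, ?_⟩
        refine left_inv_eq_right_inv (a := ρ x) (inv_mul_self h hx) ?_
        rw [hab, ← hc _ (E₁.inv_mem ha) _ (E₂.inv_mem hb), mul_assoc, ← mul_assoc (ρ b),
          mul_inv_self h (h2 hb), one_mul, mul_inv_self h (h1 ha)] }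
  have hle : E₁ ⊔ E₂ ≤ D := sup_le
    (fun a ha => ⟨h1 ha, a, ha, 1, E₂.one_mem, by rw [h.one, mul_one]⟩)
    (fun b hb => ⟨h2 hb, 1, E₁.one_mem, b, hb, by rw [h.one, one_mul]⟩)
  exact (hle (hgen he)).2

variable [Finite G]

/-- A lift for a part of an orthogonal decomposition, inside the algebra of that part. -/
theorem exists_part_lift (h : Heis E ρ) {T K : Subgroup G} (hT : Acts T E ρ) (hK : Acts K E ρ)
    (hfpf : Fpf K E ρ) {E₁ E₂ : Subgroup G} (h1 : E₁ ≤ E) (h2 : E₂ ≤ E) (hgen : E ≤ E₁ ⊔ E₂)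
    (hcom : ∀ a ∈ E₁, ∀ b ∈ E₂, cm ρ a b = 1) (hlt : Nat.card E₁ < Nat.card E)
    (hT1 : ∀ t ∈ T, ∀ a ∈ E₁, t * a * t⁻¹ ∈ E₁) (hK1 : ∀ k ∈ K, ∀ a ∈ E₁, k * a * k⁻¹ ∈ E₁)
    (hrec : ∀ (U : Submodule ℂ V) (E' : Subgroup G) (ρ' : G → Module.End ℂ U),
      Nat.card E' < Nat.card E → Heis E' ρ' → Acts T E' ρ' → Acts K E' ρ' → Fpf K E' ρ' →
      Lifts T E' ρ') :
    ∃ R : G → Module.End ℂ V, R 1 = 1 ∧ (∀ s ∈ T, ∀ t ∈ T, R (s * t) = R s * R t) ∧
      (∀ t ∈ T, ∀ a ∈ E₁, R t * ρ a = ρ (t * a * t⁻¹) * R t) ∧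
      ∀ t ∈ T, ∀ f : Module.End ℂ V, (∀ a ∈ E₁, f * ρ a = ρ a * f) → R t * f = f * R t := by
  classical
  haveI := h.nontrivial
  have hex : ∃ n, ∃ W : Submodule ℂ V, W ≠ ⊥ ∧ (∀ a ∈ E₁, ∀ v ∈ W, ρ a v ∈ W) ∧ finrank ℂ W = n :=
    ⟨_, ⊤, top_ne_bot, fun _ _ _ _ => Submodule.mem_top, rfl⟩
  obtain ⟨U, hU0, hUi, hUn⟩ := Nat.find_spec hex
  have hirr : ∀ W : Submodule ℂ V, W ≤ U → (∀ a ∈ E₁, ∀ v ∈ W, ρ a v ∈ W) → W = ⊥ ∨ W = U := by
    intro W hWU hWi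
    by_cases hW0 : W = ⊥
    · exact Or.inl hW0
    · have hge := Nat.find_min' hex ⟨W, hW0, hWi, rfl⟩
      rw [← hUn] at hge
      exact Or.inr (Submodule.eq_of_le_of_finrank_le hWU hge)
  -- an operator commuting with `E₂` is determined on `U`
  have hinj : ∀ f : Module.End ℂ V, (∀ b ∈ E₂, f * ρ b = ρ b * f) → (∀ u ∈ U, f u = 0) → f = 0 := by
    intro f hf hfU
    let big : Submodule ℂ V := Submodule.span ℂ {x | ∃ b ∈ E₂, ∃ u ∈ U, x = ρ b u}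
    have hbig : big = ⊤ := by
      refine (h.irr big fun e he x hx => ?_).resolve_left fun e => hU0 ?_
      · obtain ⟨a, ha, b, hb, hab⟩ := decomp h h1 h2 hgen hcom he
        induction hx using Submodule.span_induction with
        | mem x hx =>
          obtain ⟨b', hb', u, hu, rfl⟩ := hx
          refine Submodule.subset_span ⟨b * b', E₂.mul_mem hb hb', ρ a u, hUi a ha u hu, ?_⟩
          rw [hab, h.mul b (h2 hb) b' (h2 hb')]
          have e1 : ρ a * ρ b * ρ b' = ρ b * ρ b' * ρ a := by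
            rw [(commute_iff h (h1 ha) (h2 hb)).mp (hcom a ha b hb), mul_assoc,
              (commute_iff h (h1 ha) (h2 hb')).mp (hcom a ha b' hb'), ← mul_assoc]
          exact LinearMap.congr_fun e1 u
        | zero => rw [map_zero]; exact big.zero_mem
        | add x y _ _ hx hy => rw [map_add]; exact big.add_mem hx hy
        | smul c x _ hx => rw [map_smul]; exact big.smul_mem c hx
      · rw [eq_bot_iff]
        intro u hu
        rw [← e]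
        exact Submodule.subset_span ⟨1, E₂.one_mem, u, hu, by rw [h.one]; rfl⟩
    have hle : big ≤ LinearMap.ker f := Submodule.span_le.mpr (by
      rintro x ⟨b, hb, u, hu, rfl⟩
      show f (ρ b u) = 0
      rw [← Module.End.mul_apply, hf b hb, Module.End.mul_apply, hfU u hu, map_zero])
    rw [hbig, top_le_iff] at hle
    exact LinearMap.ker_eq_top.mp hle
  have hcomm2 : ∀ a ∈ E₁, ∀ b ∈ E₂, ρ a * ρ b = ρ b * ρ a := fun a ha b hb =>
    (commute_iff h (h1 ha) (h2 hb)).mp (hcom a ha b hb)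
  have hh := heis_res h h1 hUi hirr hU0
  have hscV : ∀ s ∈ E₁, ∀ c : ℂ, res U ρ s = c • 1 → ρ s = c • 1 := by
    intro s hs c hc
    refine sub_eq_zero.mp (hinj _ (fun b hb => ?_) fun u hu => ?_)
    · rw [sub_mul, mul_sub, hcomm2 s hs b hb, smul_mul_assoc, mul_smul_comm, one_mul, mul_one]
    · have h3 := congrArg Subtype.val (LinearMap.congr_fun hc ⟨u, hu⟩)
      rw [res_apply (hUi s hs)] at h3
      simp only [LinearMap.sub_apply, h3]
      simp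
  have hacts : ∀ H : Subgroup G, Acts H E ρ → (∀ g ∈ H, ∀ a ∈ E₁, g * a * g⁻¹ ∈ E₁) →
      Acts H E₁ (res U ρ) := fun H hH hn => ⟨hn, fun g hg s hs ⟨c, hc⟩ => by
    rw [hc, res_smul_one (c := c) (by rw [hH.fix g hg s (h1 hs) ⟨c, hscV s hs c hc⟩, hscV s hs c hc])]⟩
  have hTE := hacts T hT hT1
  have hKE := hacts K hK hK1
  have hf' : Fpf K E₁ (res U ρ) := fun e he hall => by
    have hsc : Sc ρ e := hfpf e (h1 he) fun k hk => by
      obtain ⟨c, hc⟩ := hall k hk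
      exact ⟨c, hscV _ (E₁.mul_mem (E₁.inv_mem he) (hK1 k hk e he)) c hc⟩
    exact ⟨_, res_smul_one (hsc.eq_scal h)⟩
  obtain ⟨R', hR'1, hR'mul, hR'⟩ := hrec U E₁ (res U ρ) hlt hh hTE hKE hf'
  -- operators of the part, with prescribed restriction
  haveI : Fintype E₁ := Fintype.ofFinite E₁
  let b := Module.finBasis ℂ U
  have htr : ∀ f : Module.End ℂ U, LinearMap.trace ℂ U f = ∑ i, b.repr (f (b i)) i := fun f => by
    rw [LinearMap.trace_eq_matrix_trace ℂ b f]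
    simp [Matrix.trace, LinearMap.toMatrix_apply]
  have hschur : ∀ B : Module.End ℂ U, ∑ x : E₁, res U ρ (x : G) * B * res U ρ (x : G)⁻¹ =
      ((Fintype.card E₁ : ℂ) * LinearMap.trace ℂ U B / (finrank ℂ U : ℂ)) • (1 : Module.End ℂ U) := by
    intro B
    obtain ⟨c, hc⟩ := exists_scalar hh (∑ x : E₁, res U ρ (x : G) * B * res U ρ (x : G)⁻¹) fun a ha => by
      rw [Finset.sum_mul, Finset.mul_sum]
      refine Fintype.sum_equiv (Equiv.mulLeft (⟨a, ha⟩⁻¹ : E₁)) _ _ fun x => ?_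
      simp only [Equiv.coe_mulLeft, Subgroup.coe_mul, Subgroup.coe_inv]
      rw [mul_inv_rev, inv_inv, ← mul_assoc (res U ρ a), ← mul_assoc (res U ρ a),
        ← hh.mul a ha _ (E₁.mul_mem (E₁.inv_mem ha) x.2), mul_inv_cancel_left,
        hh.mul _ (E₁.inv_mem x.2) a ha]
      simp only [mul_assoc]
    have ht := congrArg (LinearMap.trace ℂ U) hc
    rw [map_sum, map_smul, LinearMap.trace_one, smul_eq_mul] at ht
    rw [Finset.sum_congr rfl (fun (x : E₁) _ => show LinearMap.trace ℂ U (res U ρ (x : G) * B * res U ρ (x : G)⁻¹)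
      = LinearMap.trace ℂ U B by
        rw [LinearMap.trace_mul_comm, ← mul_assoc, inv_mul_self hh x.2, one_mul]),
      Finset.sum_const, Finset.card_univ, nsmul_eq_mul] at ht
    rw [hc, ht, mul_div_assoc, div_self (finrank_ne_zero hh), mul_one]
  let Φ : Module.End ℂ U → Module.End ℂ V := fun f =>
    ((finrank ℂ U : ℂ) / (Fintype.card E₁ : ℂ)) •
      ∑ x : E₁, LinearMap.trace ℂ U (f * res U ρ (x : G)⁻¹) • ρ (x : G)
  have hΦcomm : ∀ f (g : Module.End ℂ V), (∀ a ∈ E₁, g * ρ a = ρ a * g) → Φ f * g = g * Φ f := by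
    intro f g hg
    simp only [Φ, smul_mul_assoc, mul_smul_comm, Finset.sum_mul, Finset.mul_sum]
    congr 1
    exact Finset.sum_congr rfl fun x _ => by rw [hg x x.2]
  have hΦU : ∀ f (u : U), Φ f (u : V) = ((f u : U) : V) := by
    intro f u
    have key : ∑ x : E₁, LinearMap.trace ℂ U (f * res U ρ (x : G)⁻¹) • res U ρ (x : G) u =
        ((Fintype.card E₁ : ℂ) / (finrank ℂ U : ℂ)) • f u := by
      have hterm : ∀ x : E₁, LinearMap.trace ℂ U (f * res U ρ (x : G)⁻¹) • res U ρ (x : G) u =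
          ∑ i, (res U ρ (x : G) * ((b.coord i ∘ₗ f).smulRight u) * res U ρ (x : G)⁻¹) (b i) := by
        intro x
        rw [htr, Finset.sum_smul]
        refine Finset.sum_congr rfl fun i _ => ?_
        simp [LinearMap.smulRight_apply, map_smul]
      rw [Finset.sum_congr rfl fun x _ => hterm x, Finset.sum_comm]
      have hi : ∀ i, ∑ x : E₁, (res U ρ (x : G) * ((b.coord i ∘ₗ f).smulRight u) * res U ρ (x : G)⁻¹) (b i) =
          ((Fintype.card E₁ : ℂ) / (finrank ℂ U : ℂ)) • (b.repr (f u) i • b i) := by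
        intro i
        rw [← LinearMap.sum_apply, hschur, LinearMap.smul_apply, Module.End.one_apply,
          show LinearMap.trace ℂ U ((b.coord i ∘ₗ f).smulRight u) = b.repr (f u) i by
            simp [LinearMap.trace_smulRight]]
        rw [smul_smul]
        congr 1
        ring
      rw [Finset.sum_congr rfl fun i _ => hi i, ← Finset.smul_sum, b.sum_repr]
    have hn := finrank_ne_zero hh
    have hc : (Fintype.card E₁ : ℂ) ≠ 0 := by exact_mod_cast Fintype.card_ne_zero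
    have := congrArg (fun w : U => ((((finrank ℂ U : ℂ) / (Fintype.card E₁ : ℂ)) • w : U) : V)) key
    simp only [smul_smul] at this
    rw [show (finrank ℂ U : ℂ) / (Fintype.card E₁ : ℂ) * ((Fintype.card E₁ : ℂ) / (finrank ℂ U : ℂ)) = 1 by
      field_simp, one_smul] at this
    rw [← this]
    simp only [Φ, LinearMap.smul_apply, LinearMap.sum_apply, Submodule.coe_smul, Submodule.coe_sum]
    congr 1
    exact Finset.sum_congr rfl fun x _ => by rw [res_apply (hUi x x.2)]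
  have hΦE2 : ∀ f, ∀ c ∈ E₂, Φ f * ρ c = ρ c * Φ f := fun f c hc =>
    hΦcomm f (ρ c) fun a ha => (hcomm2 a ha c hc).symm
  refine ⟨fun t => Φ (R' t), ?_, fun s hs t ht => ?_, fun t ht a ha => ?_,
    fun t _ f hf => hΦcomm _ f hf⟩
  · refine sub_eq_zero.mp (hinj _ (fun c hc => ?_) fun u hu => ?_)
    · rw [sub_mul, mul_sub, hΦE2 _ c hc, one_mul, mul_one]
    · rw [LinearMap.sub_apply, hΦU _ ⟨u, hu⟩, hR'1]; simp
  · refine sub_eq_zero.mp (hinj _ (fun c hc => ?_) fun u hu => ?_)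
    · rw [sub_mul, mul_sub, hΦE2 _ c hc, mul_assoc (Φ (R' s)), hΦE2 _ c hc, ← mul_assoc (Φ (R' s)),
        hΦE2 _ c hc, mul_assoc]
    · rw [LinearMap.sub_apply, Module.End.mul_apply, hΦU _ ⟨u, hu⟩, hΦU (R' t) ⟨u, hu⟩, hΦU,
        hR'mul s hs t ht]
      simp
  · refine sub_eq_zero.mp (hinj _ (fun c hc => ?_) fun u hu => ?_)
    · rw [sub_mul, mul_sub]
      congr 1
      · rw [mul_assoc, hcomm2 a ha c hc, ← mul_assoc, hΦE2 _ c hc, mul_assoc]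
      · rw [mul_assoc, hΦE2 _ c hc, ← mul_assoc, hcomm2 _ (hT1 t ht a ha) c hc, mul_assoc]
    · have h3 := congrArg Subtype.val (LinearMap.congr_fun (hR' t ht a ha) ⟨u, hu⟩)
      simp only [Module.End.mul_apply] at h3
      rw [res_apply (hUi _ (hT1 t ht a ha))] at h3
      rw [LinearMap.sub_apply, Module.End.mul_apply, Module.End.mul_apply, hΦU _ ⟨u, hu⟩]
      have h4 := hΦU (R' t) ⟨ρ a u, hUi a ha u hu⟩
      rw [h4, sub_eq_zero]
      refine Eq.trans ?_ h3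
      congr 2
      exact Subtype.ext (res_apply (hUi a ha) ⟨u, hu⟩).symm

/-- Orthogonal decomposition. -/
theorem lifts_of_split (h : Heis E ρ) {T K : Subgroup G} (hT : Acts T E ρ) (hK : Acts K E ρ)
    (hfpf : Fpf K E ρ) {E₁ E₂ : Subgroup G} (h1 : E₁ ≤ E) (h2 : E₂ ≤ E) (hgen : E ≤ E₁ ⊔ E₂)
    (hcom : ∀ a ∈ E₁, ∀ b ∈ E₂, cm ρ a b = 1)
    (hlt1 : Nat.card E₁ < Nat.card E) (hlt2 : Nat.card E₂ < Nat.card E)
    (hT1 : ∀ t ∈ T, ∀ a ∈ E₁, t * a * t⁻¹ ∈ E₁) (hK1 : ∀ k ∈ K, ∀ a ∈ E₁, k * a * k⁻¹ ∈ E₁)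
    (hT2 : ∀ t ∈ T, ∀ a ∈ E₂, t * a * t⁻¹ ∈ E₂) (hK2 : ∀ k ∈ K, ∀ a ∈ E₂, k * a * k⁻¹ ∈ E₂)
    (hrec : ∀ (U : Submodule ℂ V) (E' : Subgroup G) (ρ' : G → Module.End ℂ U),
      Nat.card E' < Nat.card E → Heis E' ρ' → Acts T E' ρ' → Acts K E' ρ' → Fpf K E' ρ' →
      Lifts T E' ρ') :
    Lifts T E ρ := by
  have hcom' : ∀ b ∈ E₂, ∀ a ∈ E₁, cm ρ b a = 1 := fun b hb a ha => by
    rw [cm_symm h (h2 hb) (h1 ha)]; exact hcom a ha b hb
  obtain ⟨R₁, hR₁1, hR₁m, hR₁, hR₁c⟩ := exists_part_lift h hT hK hfpf h1 h2 hgen hcom hlt1 hT1 hK1 hrec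
  obtain ⟨R₂, hR₂1, hR₂m, hR₂, hR₂c⟩ := exists_part_lift h hT hK hfpf h2 h1 (by rwa [sup_comm]) hcom'
    hlt2 hT2 hK2 hrec
  have hc1 : ∀ t ∈ T, ∀ b ∈ E₂, R₁ t * ρ b = ρ b * R₁ t := fun t ht b hb => hR₁c t ht _ fun a ha =>
    (commute_iff h (h2 hb) (h1 ha)).mp (hcom' b hb a ha)
  have hc2 : ∀ t ∈ T, ∀ a ∈ E₁, R₂ t * ρ a = ρ a * R₂ t := fun t ht a ha => hR₂c t ht _ fun b hb =>
    (commute_iff h (h1 ha) (h2 hb)).mp (hcom a ha b hb)
  have hc12 : ∀ s ∈ T, ∀ t ∈ T, R₁ s * R₂ t = R₂ t * R₁ s := fun s hs t ht =>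
    hR₁c s hs _ (hc2 t ht)
  refine ⟨fun t => R₁ t * R₂ t, by simp only [hR₁1, hR₂1, mul_one], fun s hs t ht => ?_, fun t ht e he => ?_⟩
  · simp only [hR₁m s hs t ht, hR₂m s hs t ht]
    rw [mul_assoc, ← mul_assoc (R₁ t), hc12 t ht s hs]
    simp only [mul_assoc]
  · obtain ⟨a, ha, b, hb, hab⟩ := decomp h h1 h2 hgen hcom he
    have hab' : ρ (t * e * t⁻¹) = ρ (t * a * t⁻¹) * ρ (t * b * t⁻¹) := by
      have := conj_congr h hT ht he (E.mul_mem (h1 ha) (h2 hb)) (c := 1)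
        (by rw [one_smul, hab, h.mul a (h1 ha) b (h2 hb)])
      rw [one_smul] at this
      rw [this, show t * (a * b) * t⁻¹ = t * a * t⁻¹ * (t * b * t⁻¹) by group,
        h.mul _ (hT.norm t ht a (h1 ha)) _ (hT.norm t ht b (h2 hb))]
    show R₁ t * R₂ t * ρ e = ρ (t * e * t⁻¹) * (R₁ t * R₂ t)
    calc R₁ t * R₂ t * ρ e = R₁ t * (R₂ t * ρ a) * ρ b := by rw [hab]; simp only [mul_assoc]
      _ = R₁ t * ρ a * (R₂ t * ρ b) := by rw [hc2 t ht a ha]; simp only [mul_assoc]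
      _ = ρ (t * a * t⁻¹) * (R₁ t * ρ (t * b * t⁻¹)) * R₂ t := by
        rw [hR₁ t ht a ha, hR₂ t ht b hb]; simp only [mul_assoc]
      _ = _ := by rw [hc1 t ht _ (hT2 t ht b hb), hab']; simp only [mul_assoc]

/-- Two parts swapped by an element outside a subgroup of index two. -/
theorem lifts_of_swap (h : Heis E ρ) {T M L : Subgroup G} (hT : Acts T E ρ) (hL : Acts L E ρ)
    (hfpf : Fpf L E ρ) (hMT : M ≤ T) {t : G} (ht : t ∈ T) (htM : t ∉ M) (ht2 : t * t ∈ M)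
    (hMn : ∀ m ∈ M, t * m * t⁻¹ ∈ M) (hMn' : ∀ m ∈ M, t⁻¹ * m * t ∈ M)
    (hcos : ∀ g ∈ T, g ∉ M → g * t⁻¹ ∈ M)
    {E₁ E₂ : Subgroup G} (h1 : E₁ ≤ E) (h2 : E₂ ≤ E) (hgen : E ≤ E₁ ⊔ E₂)
    (hcom : ∀ a ∈ E₁, ∀ b ∈ E₂, cm ρ a b = 1)
    (h12 : ∀ x, x ∈ E₂ ↔ t⁻¹ * x * t ∈ E₁) (hlt1 : Nat.card E₁ < Nat.card E)
    (hM1 : ∀ m ∈ M, ∀ a ∈ E₁, m * a * m⁻¹ ∈ E₁) (hL1 : ∀ l ∈ L, ∀ a ∈ E₁, l * a * l⁻¹ ∈ E₁)
    (hrec : ∀ (U : Submodule ℂ V) (E' : Subgroup G) (ρ' : G → Module.End ℂ U),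
      Nat.card E' < Nat.card E → Heis E' ρ' → Acts M E' ρ' → Acts L E' ρ' → Fpf L E' ρ' →
      Lifts M E' ρ') :
    Lifts T E ρ := by
  classical
  haveI := h.nontrivial
  obtain ⟨R₁, hR₁1, hR₁m, hR₁, hR₁c⟩ :=
    exists_part_lift h (hT.mono hMT) hL hfpf h1 h2 hgen hcom hlt1 hM1 hL1 hrec
  haveI : Fintype E₁ := Fintype.ofFinite E₁
  have hmv : ∀ a ∈ E₁, t * a * t⁻¹ ∈ E₂ := fun a ha => by
    rw [h12, show t⁻¹ * (t * a * t⁻¹) * t = a by group]; exact ha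
  have hc : ∀ a ∈ E₁, ∀ b ∈ E₂, ρ a * ρ b = ρ b * ρ a := fun a ha b hb =>
    (commute_iff h (h1 ha) (h2 hb)).mp (hcom a ha b hb)
  let S₀ : Module.End ℂ V := ∑ x : E₁, ρ (x : G) * ρ (t * (x : G)⁻¹ * t⁻¹)
  have hS₀a : ∀ a ∈ E₁, ρ a * S₀ = S₀ * ρ (t * a * t⁻¹) := by
    intro a ha
    simp only [S₀, Finset.sum_mul, Finset.mul_sum]
    refine Fintype.sum_equiv (Equiv.mulLeft (⟨a, ha⟩ : E₁)) _ _ fun x => ?_
    simp only [Equiv.coe_mulLeft, Subgroup.coe_mul]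
    rw [← mul_assoc (ρ a), ← h.mul a (h1 ha) _ (h1 x.2), mul_assoc (ρ _) (ρ _) (ρ _), ← h.mul _
      (hT.norm t ht _ (E.inv_mem (E.mul_mem (h1 ha) (h1 x.2)))) _ (hT.norm t ht a (h1 ha)),
      show t * (a * (x : G))⁻¹ * t⁻¹ * (t * a * t⁻¹) = t * (x : G)⁻¹ * t⁻¹ by group]
  have hS₀b : ∀ a ∈ E₁, ρ (t * a * t⁻¹) * S₀ = S₀ * ρ a := by
    intro a ha
    simp only [S₀, Finset.sum_mul, Finset.mul_sum]
    refine Fintype.sum_equiv (Equiv.mulRight (⟨a, ha⟩⁻¹ : E₁)) _ _ fun x => ?_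
    simp only [Equiv.coe_mulRight, Subgroup.coe_mul, Subgroup.coe_inv]
    rw [← mul_assoc (ρ (t * a * t⁻¹)), ← hc _ x.2 _ (hmv a ha), mul_assoc (ρ _) (ρ _) (ρ _),
      ← h.mul _ (hT.norm t ht a (h1 ha)) _ (hT.norm t ht _ (E.inv_mem (h1 x.2))),
      mul_assoc (ρ _) (ρ _) (ρ a),
      ← hc a ha _ (hmv _ (E₁.inv_mem (E₁.mul_mem x.2 (E₁.inv_mem ha)))), ← mul_assoc (ρ _) (ρ a),
      ← h.mul _ (E.mul_mem (h1 x.2) (E.inv_mem (h1 ha))) a (h1 ha), inv_mul_cancel_right,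
      show t * a * t⁻¹ * (t * (x : G)⁻¹ * t⁻¹) = t * ((x : G) * a⁻¹)⁻¹ * t⁻¹ by group]
  have hS₀ne : S₀ ≠ 0 := by
    intro h0
    have htr := congrArg (LinearMap.trace ℂ V) h0
    rw [map_sum, map_zero] at htr
    have hterm : ∀ x : E₁, LinearMap.trace ℂ V (ρ (x : G) * ρ (t * (x : G)⁻¹ * t⁻¹)) =
        if Sc ρ (x : G) then (finrank ℂ V : ℂ) else 0 := by
      intro x
      split_ifs with hx
      · rw [hT.fix t ht _ (E.inv_mem (h1 x.2)) (hx.inv' h (h1 x.2)), mul_inv_self h (h1 x.2),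
          LinearMap.trace_one]
      · rw [← h.mul _ (h1 x.2) _ (hT.norm t ht _ (E.inv_mem (h1 x.2)))]
        refine trace_eq_zero h (E.mul_mem (h1 x.2) (hT.norm t ht _ (E.inv_mem (h1 x.2)))) fun hs => hx ?_
        refine sc_of_forall_cm h (h1 x.2) fun e he => ?_
        obtain ⟨a, ha, b, hb, hab⟩ := decomp h h1 h2 hgen hcom he
        have hxa : cm ρ (x : G) a = 1 := by
          have := cm_of_sc_left h (E.mul_mem (h1 x.2) (hT.norm t ht _ (E.inv_mem (h1 x.2)))) (h1 ha) hs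
          rwa [cm_mul_left h (h1 x.2) (hT.norm t ht _ (E.inv_mem (h1 x.2))) (h1 ha),
            cm_symm h (hT.norm t ht _ (E.inv_mem (h1 x.2))) (h1 ha),
            hcom a ha _ (hmv _ (E₁.inv_mem x.2)), mul_one] at this
        refine cm_eq_of h (h1 x.2) he ?_
        rw [one_smul, hab, ← mul_assoc, (commute_iff h (h1 x.2) (h1 ha)).mp hxa, mul_assoc,
          hc _ x.2 b hb, mul_assoc]
    rw [Finset.sum_congr rfl fun x _ => hterm x, ← Finset.sum_filter, Finset.sum_const, nsmul_eq_mul] at htr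
    have h1' : (1 : E₁) ∈ Finset.univ.filter fun x : E₁ => Sc ρ (x : G) := by simp [sc_one h]
    rcases mul_eq_zero.mp htr with h0 | h0
    · exact Finset.card_ne_zero_of_mem h1' (by exact_mod_cast h0)
    · exact finrank_ne_zero h h0
  have htinv : ∀ b ∈ E₂, ∃ a ∈ E₁, b = t * a * t⁻¹ := fun b hb =>
    ⟨t⁻¹ * b * t, (h12 b).mp hb, by group⟩
  have hS₀ker : LinearMap.ker S₀ = ⊥ := by
    refine (h.irr (LinearMap.ker S₀) fun e he v hv => ?_).resolve_right fun e => hS₀ne (LinearMap.ker_eq_top.mp e)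
    obtain ⟨a, ha, b, hb, hab⟩ := decomp h h1 h2 hgen hcom he
    obtain ⟨a', ha', rfl⟩ := htinv b hb
    rw [LinearMap.mem_ker] at hv ⊢
    calc S₀ (ρ e v) = (S₀ * ρ a * ρ (t * a' * t⁻¹)) v := by rw [hab]; rfl
      _ = (ρ (t * a * t⁻¹) * (S₀ * ρ (t * a' * t⁻¹))) v := by rw [← hS₀b a ha, mul_assoc]
      _ = (ρ (t * a * t⁻¹) * ρ a' * S₀) v := by rw [← hS₀a a' ha', mul_assoc (ρ _) (ρ a') S₀]
      _ = 0 := by rw [Module.End.mul_apply, hv, map_zero]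
  have hS₀u : IsUnit S₀ := (LinearMap.isUnit_iff_ker_eq_bot S₀).mpr hS₀ker
  obtain ⟨c, hcS⟩ := exists_scalar h (S₀ * S₀) fun e he => by
    obtain ⟨a, ha, b, hb, hab⟩ := decomp h h1 h2 hgen hcom he
    obtain ⟨a', ha', rfl⟩ := htinv b hb
    calc S₀ * S₀ * ρ e = S₀ * (S₀ * ρ a) * ρ (t * a' * t⁻¹) := by rw [hab]; simp only [mul_assoc]
      _ = (S₀ * ρ (t * a * t⁻¹)) * (S₀ * ρ (t * a' * t⁻¹)) := by rw [← hS₀b a ha]; simp only [mul_assoc]
      _ = ρ a * (S₀ * ρ a') * S₀ := by rw [← hS₀a a ha, ← hS₀a a' ha']; simp only [mul_assoc]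
      _ = _ := by rw [← hS₀b a' ha', hab]; simp only [mul_assoc]
  have hc0 : c ≠ 0 := by
    rintro rfl
    rw [zero_smul] at hcS
    exact (hS₀u.mul hS₀u).ne_zero hcS
  obtain ⟨d, hd⟩ := IsAlgClosed.exists_pow_nat_eq c⁻¹ (show 0 < 2 by norm_num)
  let S : Module.End ℂ V := d • S₀
  have hSS : S * S = 1 := by
    simp only [S, smul_mul_smul_comm]
    rw [← pow_two d, hd, hcS, smul_smul, inv_mul_cancel₀ hc0, one_smul]
  have hSS' : ∀ X : Module.End ℂ V, S * (S * X) = X := fun X => by rw [← mul_assoc, hSS, one_mul]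
  have hSa : ∀ a ∈ E₁, S * ρ a = ρ (t * a * t⁻¹) * S := fun a ha => by
    simp only [S, smul_mul_assoc, mul_smul_comm, hS₀b a ha]
  have hSb : ∀ a ∈ E₁, S * ρ (t * a * t⁻¹) = ρ a * S := fun a ha => by
    simp only [S, smul_mul_assoc, mul_smul_comm, hS₀a a ha]
  let R₂ : G → Module.End ℂ V := fun m => S * R₁ (t⁻¹ * m * t) * S
  have hR₂a : ∀ m ∈ M, ∀ a ∈ E₁, R₂ m * ρ a = ρ a * R₂ m := by
    intro m hm a ha
    simp only [R₂]
    calc S * R₁ (t⁻¹ * m * t) * S * ρ a = S * (R₁ (t⁻¹ * m * t) * ρ (t * a * t⁻¹)) * S := by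
          rw [mul_assoc, hSa a ha]; simp only [mul_assoc]
      _ = (S * ρ (t * a * t⁻¹)) * R₁ (t⁻¹ * m * t) * S := by
          rw [hR₁c _ (hMn' m hm) _ (fun a' ha' => (hc a' ha' _ (hmv a ha)).symm)]; simp only [mul_assoc]
      _ = _ := by rw [hSb a ha]; simp only [mul_assoc]
  have hR₂b : ∀ m ∈ M, ∀ b ∈ E₂, R₂ m * ρ b = ρ (m * b * m⁻¹) * R₂ m := by
    intro m hm b hb
    obtain ⟨a, ha, rfl⟩ := htinv b hb
    simp only [R₂]
    have ha' := hM1 _ (hMn' m hm) a ha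
    calc S * R₁ (t⁻¹ * m * t) * S * ρ (t * a * t⁻¹) = S * (R₁ (t⁻¹ * m * t) * ρ a) * S := by
          rw [mul_assoc, hSb a ha]; simp only [mul_assoc]
      _ = (S * ρ (t⁻¹ * m * t * a * (t⁻¹ * m * t)⁻¹)) * R₁ (t⁻¹ * m * t) * S := by
          rw [hR₁ _ (hMn' m hm) a ha]; simp only [mul_assoc]
      _ = _ := by
          rw [hSa _ ha', show t * (t⁻¹ * m * t * a * (t⁻¹ * m * t)⁻¹) * t⁻¹ = m * (t * a * t⁻¹) * m⁻¹ by group]
          simp only [mul_assoc]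
  have hR12 : ∀ s ∈ M, ∀ m ∈ M, R₁ s * R₂ m = R₂ m * R₁ s := fun s hs m hm => hR₁c s hs _ (hR₂a m hm)
  have hR₂m : ∀ s ∈ M, ∀ m ∈ M, R₂ (s * m) = R₂ s * R₂ m := by
    intro s hs m hm
    simp only [R₂]
    rw [show t⁻¹ * (s * m) * t = (t⁻¹ * s * t) * (t⁻¹ * m * t) by group,
      hR₁m _ (hMn' s hs) _ (hMn' m hm)]
    simp only [mul_assoc, hSS']
  let R₀ : G → Module.End ℂ V := fun m => R₁ m * R₂ m
  have hR₀1 : R₀ 1 = 1 := by
    simp only [R₀, R₂, hR₁1, one_mul, mul_one, inv_mul_cancel, hSS]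
  have hR₀m : ∀ s ∈ M, ∀ m ∈ M, R₀ (s * m) = R₀ s * R₀ m := by
    intro s hs m hm
    simp only [R₀, hR₁m s hs m hm, hR₂m s hs m hm]
    rw [mul_assoc, ← mul_assoc (R₁ m), hR12 m hm s hs]
    simp only [mul_assoc]
  let Rt : Module.End ℂ V := R₁ (t * t) * S
  have hRtsq : Rt * Rt = R₀ (t * t) := by
    simp only [Rt, R₀, R₂]
    rw [show t⁻¹ * (t * t) * t = t * t by group]
    simp only [mul_assoc]
  have hRtconj : ∀ m ∈ M, Rt * R₀ m = R₀ (t * m * t⁻¹) * Rt := by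
    intro m hm
    have hm' := hMn m hm
    have htm := hMn' m hm
    calc Rt * R₀ m = R₁ (t * t) * (S * R₁ m * S) * R₁ (t⁻¹ * m * t) * S := by
          simp only [Rt, R₀, R₂, mul_assoc]
      _ = R₁ (t * t) * R₂ (t * m * t⁻¹) * R₁ (t⁻¹ * m * t) * S := by
          simp only [R₂]; rw [show t⁻¹ * (t * m * t⁻¹) * t = m by group]
      _ = R₂ (t * m * t⁻¹) * R₁ (t * t * (t⁻¹ * m * t)) * S := by
          rw [hR12 _ ht2 _ hm', hR₁m _ ht2 _ htm]; simp only [mul_assoc]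
      _ = R₂ (t * m * t⁻¹) * R₁ (t * m * t⁻¹ * (t * t)) * S := by
          rw [show t * t * (t⁻¹ * m * t) = t * m * t⁻¹ * (t * t) by group]
      _ = _ := by
          rw [hR₁m _ hm' _ ht2]
          simp only [R₀, Rt]
          rw [hR12 _ hm' _ hm']
          simp only [mul_assoc]
  have hint0 : ∀ m ∈ M, ∀ e ∈ E, R₀ m * ρ e = ρ (m * e * m⁻¹) * R₀ m := by
    intro m hm e he
    obtain ⟨a, ha, b, hb, hab⟩ := decomp h h1 h2 hgen hcom he
    have hab' : ρ (m * e * m⁻¹) = ρ (m * a * m⁻¹) * ρ (m * b * m⁻¹) := by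
      have := conj_congr h hT (hMT hm) he (E.mul_mem (h1 ha) (h2 hb)) (c := 1)
        (by rw [one_smul, hab, h.mul a (h1 ha) b (h2 hb)])
      rw [one_smul] at this
      rw [this, show m * (a * b) * m⁻¹ = m * a * m⁻¹ * (m * b * m⁻¹) by group,
        h.mul _ (hT.norm m (hMT hm) a (h1 ha)) _ (hT.norm m (hMT hm) b (h2 hb))]
    have hmb : m * b * m⁻¹ ∈ E₂ := by
      rw [h12, show t⁻¹ * (m * b * m⁻¹) * t = (t⁻¹ * m * t) * (t⁻¹ * b * t) * (t⁻¹ * m * t)⁻¹ by group]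
      exact hM1 _ (hMn' m hm) _ ((h12 b).mp hb)
    calc R₁ m * R₂ m * ρ e = R₁ m * (R₂ m * ρ a) * ρ b := by rw [hab]; simp only [mul_assoc]
      _ = R₁ m * ρ a * (R₂ m * ρ b) := by rw [hR₂a m hm a ha]; simp only [mul_assoc]
      _ = ρ (m * a * m⁻¹) * (R₁ m * ρ (m * b * m⁻¹)) * R₂ m := by
        rw [hR₁ m hm a ha, hR₂b m hm b hb]; simp only [mul_assoc]
      _ = _ := by
        rw [hR₁c m hm _ (fun a' ha' => (hc a' ha' _ hmb).symm), hab']; simp only [R₀, mul_assoc]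
  have hintt : ∀ e ∈ E, Rt * ρ e = ρ (t * e * t⁻¹) * Rt := by
    intro e he
    obtain ⟨a, ha, b, hb, hab⟩ := decomp h h1 h2 hgen hcom he
    obtain ⟨a', ha', rfl⟩ := htinv b hb
    have hab' : ρ (t * e * t⁻¹) = ρ (t * a * t⁻¹) * ρ (t * t * a' * (t * t)⁻¹) := by
      have := conj_congr h hT ht he (E.mul_mem (h1 ha) (h2 hb)) (c := 1)
        (by rw [one_smul, hab, h.mul a (h1 ha) _ (h2 hb)])
      rw [one_smul] at this
      rw [this, show t * (a * (t * a' * t⁻¹)) * t⁻¹ = t * a * t⁻¹ * (t * t * a' * (t * t)⁻¹) by group,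
        h.mul _ (hT.norm t ht a (h1 ha)) _ (hT.norm _ (T.mul_mem ht ht) a' (h1 ha'))]
    calc R₁ (t * t) * S * ρ e = R₁ (t * t) * (S * ρ a) * ρ (t * a' * t⁻¹) := by rw [hab]; simp only [mul_assoc]
      _ = (R₁ (t * t) * ρ (t * a * t⁻¹)) * (S * ρ (t * a' * t⁻¹)) := by rw [hSa a ha]; simp only [mul_assoc]
      _ = ρ (t * a * t⁻¹) * (R₁ (t * t) * ρ a') * S := by
        rw [hSb a' ha', hR₁c _ ht2 _ (fun a'' ha'' => (hc a'' ha'' _ (hmv a ha)).symm)]; simp only [mul_assoc]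
      _ = _ := by rw [hR₁ _ ht2 a' ha', hab']; simp only [Rt, mul_assoc]
  refine ⟨fun g => if g ∈ M then R₀ g else R₀ (g * t⁻¹) * Rt, by simp [M.one_mem, hR₀1],
    fun s hs u hu => ?_, fun g hg e he => ?_⟩
  · show (if s * u ∈ M then R₀ (s * u) else R₀ (s * u * t⁻¹) * Rt) =
      (if s ∈ M then R₀ s else R₀ (s * t⁻¹) * Rt) * (if u ∈ M then R₀ u else R₀ (u * t⁻¹) * Rt)
    by_cases hsM : s ∈ M <;> by_cases huM : u ∈ M
    · rw [if_pos hsM, if_pos huM, if_pos (M.mul_mem hsM huM), hR₀m s hsM u huM]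
    · rw [if_pos hsM, if_neg huM, if_neg (fun hh => huM ((M.mul_mem_cancel_left hsM).mp hh)),
        mul_assoc s u t⁻¹, hR₀m s hsM _ (hcos u hu huM), mul_assoc]
    · rw [if_neg hsM, if_pos huM, if_neg (fun hh => hsM ((M.mul_mem_cancel_right huM).mp hh)),
        mul_assoc (R₀ _) Rt (R₀ u), hRtconj u huM, ← mul_assoc (R₀ _) (R₀ _) Rt, ← hR₀m _ (hcos s hs hsM) _ (hMn u huM),
        show s * t⁻¹ * (t * u * t⁻¹) = s * u * t⁻¹ by group]
    · have hm := hcos s hs hsM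
      have hn := hcos u hu huM
      have hmem : s * u ∈ M := by
        rw [show s * u = (s * t⁻¹) * (t * (u * t⁻¹) * t⁻¹) * (t * t) by group]
        exact M.mul_mem (M.mul_mem hm (hMn _ hn)) ht2
      rw [if_neg hsM, if_neg huM, if_pos hmem]
      calc R₀ (s * u) = R₀ (s * t⁻¹) * R₀ (t * (u * t⁻¹) * t⁻¹) * R₀ (t * t) := by
            rw [← hR₀m _ hm _ (hMn _ hn), ← hR₀m _ (M.mul_mem hm (hMn _ hn)) _ ht2,
              show s * t⁻¹ * (t * (u * t⁻¹) * t⁻¹) * (t * t) = s * u by group]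
        _ = R₀ (s * t⁻¹) * (R₀ (t * (u * t⁻¹) * t⁻¹) * Rt) * Rt := by rw [← hRtsq]; simp only [mul_assoc]
        _ = _ := by rw [← hRtconj _ hn]; simp only [mul_assoc]
  · show (if g ∈ M then R₀ g else R₀ (g * t⁻¹) * Rt) * ρ e =
      ρ (g * e * g⁻¹) * (if g ∈ M then R₀ g else R₀ (g * t⁻¹) * Rt)
    by_cases hgM : g ∈ M
    · rw [if_pos hgM]; exact hint0 g hgM e he
    · rw [if_neg hgM, mul_assoc, hintt e he, ← mul_assoc,
        hint0 _ (hcos g hg hgM) _ (hT.norm t ht e he),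
        show g * t⁻¹ * (t * e * t⁻¹) * (g * t⁻¹)⁻¹ = g * e * g⁻¹ by group, mul_assoc]

end Cfsg.Agent.HeisenbergLift
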