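/-
Invariant subgroups and the reducible case of the lifting problem.

* `Fix`, `perp` : fixed elements modulo scalars, orthogonal subgroups
* `LiftBelow` : the induction hypothesis
* `lifts_of_invariant` : a proper invariant subgroup gives a reduction
-/
import Cfsg.Agent.Lib.HeisenbergLift.Product

set_option autoImplicit false
set_option linter.style.haveILetI false
set_option linter.unusedSectionVars false

namespace Cfsg.Agent.HeisenbergLift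

open Module

universe u v

variable {G : Type u} [Group G] {V : Type v} [AddCommGroup V] [Module ℂ V]
  [FiniteDimensional ℂ V] {E : Subgroup G} {ρ : G → Module.End ℂ V}

lemma sc_conj_inner (h : Heis E ρ) {a s : G} (ha : a ∈ E) (hs : s ∈ E) (hsc : Sc ρ s) :
    Sc ρ (a * s * a⁻¹) := by
  rw [show a * s * a⁻¹ = (a * s * a⁻¹ * s⁻¹) * s by group]
  exact Sc.mul' h (E.mul_mem (E.mul_mem (E.mul_mem ha hs) (E.inv_mem ha)) (E.inv_mem hs)) hs (h.comm a ha s hs) hsc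

/-- The elements of `E` fixed by `X` modulo scalars. -/
def Fix (h : Heis E ρ) {X : Subgroup G} (hX : Acts X E ρ) : Subgroup G where
  carrier := {e | e ∈ E ∧ ∀ k ∈ X, Sc ρ (e⁻¹ * (k * e * k⁻¹))}
  one_mem' := ⟨E.one_mem, fun k _ => by simpa using sc_one h⟩
  mul_mem' := fun {a b} ha hb => ⟨E.mul_mem ha.1 hb.1, fun k hk => by
    have hxa : a⁻¹ * (k * a * k⁻¹) ∈ E := E.mul_mem (E.inv_mem ha.1) (hX.norm k hk a ha.1)
    have hxb : b⁻¹ * (k * b * k⁻¹) ∈ E := E.mul_mem (E.inv_mem hb.1) (hX.norm k hk b hb.1)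
    rw [show (a * b)⁻¹ * (k * (a * b) * k⁻¹) =
      b⁻¹ * (a⁻¹ * (k * a * k⁻¹)) * b⁻¹⁻¹ * (b⁻¹ * (k * b * k⁻¹)) by group]
    exact Sc.mul' h (E.mul_mem (E.mul_mem (E.inv_mem hb.1) hxa) (by simpa using hb.1)) hxb
      (sc_conj_inner h (E.inv_mem hb.1) hxa (ha.2 k hk)) (hb.2 k hk)⟩
  inv_mem' := fun {a} ha => ⟨E.inv_mem ha.1, fun k hk => by
    have hxa : a⁻¹ * (k * a * k⁻¹) ∈ E := E.mul_mem (E.inv_mem ha.1) (hX.norm k hk a ha.1)
    rw [show a⁻¹⁻¹ * (k * a⁻¹ * k⁻¹) = a * (a⁻¹ * (k * a * k⁻¹))⁻¹ * a⁻¹ by group]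
    exact sc_conj_inner h ha.1 (E.inv_mem hxa) ((ha.2 k hk).inv' h hxa)⟩

lemma Fix_le (h : Heis E ρ) {X : Subgroup G} (hX : Acts X E ρ) : Fix h hX ≤ E := fun _ he => he.1

lemma mem_Fix_of_sc (h : Heis E ρ) {X : Subgroup G} (hX : Acts X E ρ) {s : G} (hs : s ∈ E)
    (hsc : Sc ρ s) : s ∈ Fix h hX := ⟨hs, fun k hk =>
  Sc.mul' h (E.inv_mem hs) (hX.norm k hk s hs) (hsc.inv' h hs) (sc_conj h hX hk hs hsc)⟩

lemma conj_mem_Fix (h : Heis E ρ) {X H : Subgroup G} (hX : Acts X E ρ) (hH : Acts H E ρ) {g : G}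
    (hg : g ∈ H) (hgX : ∀ k ∈ X, g⁻¹ * k * g ∈ X) {e : G} (he : e ∈ Fix h hX) :
    g * e * g⁻¹ ∈ Fix h hX := ⟨hH.norm g hg e he.1, fun k hk => by
  rw [show (g * e * g⁻¹)⁻¹ * (k * (g * e * g⁻¹) * k⁻¹) =
    g * (e⁻¹ * ((g⁻¹ * k * g) * e * (g⁻¹ * k * g)⁻¹)) * g⁻¹ by group]
  exact sc_conj h hH hg (E.mul_mem (E.inv_mem he.1) (hX.norm _ (hgX k hk) e he.1)) (he.2 _ (hgX k hk))⟩

/-- The elements orthogonal to a set. -/
def perp (h : Heis E ρ) (X : Set G) : Subgroup G where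
  carrier := {e | e ∈ E ∧ ∀ a ∈ X, a ∈ E → cm ρ e a = 1}
  one_mem' := ⟨E.one_mem, fun a _ ha => cm_of_sc_left h E.one_mem ha (sc_one h)⟩
  mul_mem' := fun {x y} hx hy => ⟨E.mul_mem hx.1 hy.1, fun a haX ha => by
    rw [cm_mul_left h hx.1 hy.1 ha, hx.2 a haX ha, hy.2 a haX ha, one_mul]⟩
  inv_mem' := fun {x} hx => ⟨E.inv_mem hx.1, fun a haX ha => by
    have := cm_mul_left h (E.inv_mem hx.1) hx.1 ha
    rw [inv_mul_cancel, cm_of_sc_left h E.one_mem ha (sc_one h), hx.2 a haX ha, mul_one] at this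
    exact this.symm⟩

omit [FiniteDimensional ℂ V] in
/-- The induction hypothesis of the lifting theorem. -/
def LiftBelow (G : Type u) [Group G] (n : ℕ) : Prop :=
  ∀ (W : Type v) [AddCommGroup W] [Module ℂ W] [FiniteDimensional ℂ W] (E : Subgroup G)
    (ρ : G → Module.End ℂ W) (T K : Subgroup G), Nat.card E < n → Heis E ρ → Acts T E ρ → Acts K E ρ →
    (∀ t ∈ T, ∀ k ∈ K, t * k * t⁻¹ ∈ K) → IsPGroup 2 T → Odd (Nat.card K) → Fpf K E ρ → Lifts T E ρ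

/-- A proper invariant subgroup with a non-scalar element. -/
def Reducible (T K E : Subgroup G) (ρ : G → Module.End ℂ V) : Prop :=
  ∃ W : Subgroup G, W ≤ E ∧ (∀ s ∈ E, Sc ρ s → s ∈ W) ∧ (∃ a ∈ W, ¬ Sc ρ a) ∧ (∃ e ∈ E, e ∉ W) ∧
    (∀ t ∈ T, ∀ a ∈ W, t * a * t⁻¹ ∈ W) ∧ ∀ k ∈ K, ∀ a ∈ W, k * a * k⁻¹ ∈ W

variable [Finite G]

theorem lifts_of_invariant (h : Heis E ρ) {T K : Subgroup G} (hT : Acts T E ρ) (hK : Acts K E ρ)
    (hTK : ∀ t ∈ T, ∀ k ∈ K, t * k * t⁻¹ ∈ K) (h2 : IsPGroup 2 T) (hodd : Odd (Nat.card K))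
    (hfpf : Fpf K E ρ) (hrec : LiftBelow.{u, v} G (Nat.card E)) (hred : Reducible T K E ρ) :
    Lifts T E ρ := by
  obtain ⟨W, hWE, hWsc, hWns, ⟨e₀, he₀, he₀W⟩, hTW, hKW⟩ := hred
  have hP : ∀ (H : Subgroup G), Acts H E ρ → (∀ g ∈ H, ∀ a ∈ W, g * a * g⁻¹ ∈ W) →
      ∀ g ∈ H, ∀ x ∈ perp h (W : Set G), g * x * g⁻¹ ∈ perp h (W : Set G) := by
    intro H hH hHW g hg x hx
    refine ⟨hH.norm g hg x hx.1, fun a haW _ => ?_⟩
    have hmem := hHW _ (H.inv_mem hg) a haW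
    rw [inv_inv] at hmem
    have := cm_conj h hH hg hx.1 (hWE hmem)
    rwa [show g * (g⁻¹ * a * g) * g⁻¹ = a by group, hx.2 _ hmem (hWE hmem)] at this
  by_cases hrad : ∃ a ∈ W, a ∈ perp h (W : Set G) ∧ ¬ Sc ρ a
  · obtain ⟨a, haW, hap, hns⟩ := hrad
    refine lifts_of_isotropic h hT hK hTK hodd hfpf (A := W ⊓ perp h (W : Set G))
      (inf_le_left.trans hWE) (fun t ht x hx => ⟨hTW t ht x hx.1, hP T hT hTW t ht x hx.2⟩)
      (fun k hk x hx => ⟨hKW k hk x hx.1, hP K hK hKW k hk x hx.2⟩) ⟨a, ⟨haW, hap⟩, hns⟩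
      (fun x hx y hy => hx.2.2 y hy.1 (hWE hy.1)) ?_
    exact fun U E' ρ' hlt hh hT' hK' hf => hrec U E' ρ' T K hlt hh hT' hK' hTK h2 hodd hf
  · push Not at hrad
    have hgen : E ≤ W ⊔ perp h (W : Set G) := by
      intro e he
      obtain ⟨e', he', heq⟩ := exists_cm_eq h hWE hWE (cm ρ e)
        (fun a ha b hb => cm_mul_right h he (hWE ha) (hWE hb))
        (fun a ha hall => cm_of_sc_right h he (hWE ha) (hrad a ha ⟨hWE ha, fun b hb _ => by
          rw [cm_symm h (hWE ha) (hWE hb)]; exact hall b hb⟩))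
      rw [show e = e' * (e'⁻¹ * e) by group]
      refine Subgroup.mul_mem_sup he' ⟨E.mul_mem (E.inv_mem (hWE he')) he, fun a haW _ => ?_⟩
      have h1 := cm_mul_left h (hWE he') (E.mul_mem (E.inv_mem (hWE he')) he) (hWE haW)
      rw [mul_inv_cancel_left, heq a haW] at h1
      have h0 : cm ρ e a ≠ 0 := fun h0 => by simpa [h0] using cm_sq h he (hWE haW)
      exact (mul_eq_left₀ h0).mp h1.symm
    have hlt1 : Nat.card W < Nat.card E := lt_of_le_of_ne (Subgroup.card_le_of_le hWE) fun e =>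
      he₀W (by rw [Subgroup.eq_of_le_of_card_ge hWE e.ge]; exact he₀)
    have hlt2 : Nat.card (perp h (W : Set G)) < Nat.card E := by
      refine lt_of_le_of_ne (Subgroup.card_le_of_le (show perp h (W : Set G) ≤ E from fun x hx => hx.1)) fun e => ?_
      obtain ⟨a, ha, hns⟩ := hWns
      obtain ⟨b, hb, hne⟩ := exists_cm_ne_one h (hWE ha) hns
      have : b ∈ perp h (W : Set G) := by
        rw [Subgroup.eq_of_le_of_card_ge (H := perp h (W : Set G)) (K := E) (fun x hx => hx.1) e.ge]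
        exact hb
      exact hne (by rw [cm_symm h (hWE ha) hb]; exact this.2 a ha (hWE ha))
    refine lifts_of_split h hT hK hfpf hWE (E₂ := perp h (W : Set G)) (fun x hx => hx.1) hgen
      (fun a ha b hb => by rw [cm_symm h (hWE ha) hb.1]; exact hb.2 a ha (hWE ha)) hlt1 hlt2 hTW hKW
      (hP T hT hTW) (hP K hK hKW) ?_
    exact fun U E' ρ' hlt hh hT' hK' hf => hrec U E' ρ' T K hlt hh hT' hK' hTK h2 hodd hf

end Cfsg.Agent.HeisenbergLift
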