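/-
The irreducible cases of the lifting problem: permuted components and cyclic quotients.
-/
import Cfsg.Agent.Lib.HeisenbergLift.Invariant
import Cfsg.Agent.Lib.BurnsideBasis.Basic
import Cfsg.Agent.Lib.Frobenius.Complement

set_option autoImplicit false
set_option linter.style.haveILetI false
set_option linter.unusedSectionVars false

namespace Cfsg.Agent.HeisenbergLift

open Module

universe u v

variable {G : Type u} [Group G] {V : Type v} [AddCommGroup V] [Module ℂ V]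
  [FiniteDimensional ℂ V] {E : Subgroup G} {ρ : G → Module.End ℂ V}

lemma Acts.sup (h : Heis E ρ) {H H' : Subgroup G} (hH : Acts H E ρ) (hH' : Acts H' E ρ) :
    Acts (H ⊔ H') E ρ := by
  let P : G → Prop := fun g => (∀ e ∈ E, g * e * g⁻¹ ∈ E) ∧ ∀ s ∈ E, Sc ρ s → ρ (g * s * g⁻¹) = ρ s
  have hP : ∀ g ∈ H ⊔ H', P g ∧ P g⁻¹ := by
    intro g hg
    rw [Subgroup.sup_eq_closure] at hg
    induction hg using Subgroup.closure_induction with
    | mem g hg =>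
      rcases hg with hg | hg
      · exact ⟨⟨hH.norm g hg, hH.fix g hg⟩, hH.norm _ (H.inv_mem hg), hH.fix _ (H.inv_mem hg)⟩
      · exact ⟨⟨hH'.norm g hg, hH'.fix g hg⟩, hH'.norm _ (H'.inv_mem hg), hH'.fix _ (H'.inv_mem hg)⟩
    | one => simp [P]
    | mul x y _ _ hx hy =>
      have key : ∀ x y : G, P x → P y → P (x * y) := fun x y hx hy => ⟨fun e he => by
        rw [show x * y * e * (x * y)⁻¹ = x * (y * e * y⁻¹) * x⁻¹ by group]
        exact hx.1 _ (hy.1 e he), fun s hs hsc => by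
        rw [show x * y * s * (x * y)⁻¹ = x * (y * s * y⁻¹) * x⁻¹ by group,
          hx.2 _ (hy.1 s hs) (by rw [Sc, hy.2 s hs hsc]; exact hsc), hy.2 s hs hsc]⟩
      exact ⟨key x y hx.1 hy.1, by rw [mul_inv_rev]; exact key _ _ hy.2 hx.2⟩
    | inv x _ hx => exact ⟨hx.2, by rw [inv_inv]; exact hx.1⟩
  exact ⟨fun g hg => (hP g hg).1.1, fun g hg => (hP g hg).1.2⟩

variable [Finite G]

/-- An element of odd order acting trivially modulo scalars acts trivially. -/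
lemma act_trivial (h : Heis E ρ) {K : Subgroup G} (hK : Acts K E ρ) (hodd : Odd (Nat.card K)) {d : G}
    (hd : d ∈ K) (htriv : ∀ e ∈ E, Sc ρ (e⁻¹ * (d * e * d⁻¹))) {e : G} (he : e ∈ E) :
    ρ (d * e * d⁻¹) = ρ e := by
  obtain ⟨c, hc⟩ := htriv e he
  have hde := hK.norm d hd e he
  have h1 : ρ (d * e * d⁻¹) = c • ρ e := by
    rw [show d * e * d⁻¹ = e * (e⁻¹ * (d * e * d⁻¹)) by group,
      h.mul e he _ (E.mul_mem (E.inv_mem he) hde), hc, mul_smul_comm, mul_one]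
  have hne := (isUnit h he).mul (isUnit h he)
  haveI := h.nontrivial
  have hc2 : c * c = 1 := by
    have h2 := hK.fix d hd _ (E.mul_mem he he) (h.sq e he)
    rw [show d * (e * e) * d⁻¹ = d * e * d⁻¹ * (d * e * d⁻¹) by group, h.mul _ hde _ hde, h1,
      smul_mul_smul_comm, h.mul e he e he] at h2
    exact smul_left_injective ℂ hne.ne_zero (h2.trans (one_smul ℂ _).symm)
  have hpow : ∀ i : ℕ, ρ (d ^ i * e * (d ^ i)⁻¹) = c ^ i • ρ e := by
    intro i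
    induction i with
    | zero => simp
    | succ i ih =>
      have h3 := conj_congr h hK hd (hK.norm _ (K.pow_mem hd i) e he) he ih
      rw [pow_succ' d, show d * d ^ i * e * (d * d ^ i)⁻¹ = d * (d ^ i * e * (d ^ i)⁻¹) * d⁻¹ by group, h3, h1,
        smul_smul, ← pow_succ]
  have h4 := hpow (Nat.card K)
  rw [show d ^ Nat.card K = 1 from orderOf_dvd_iff_pow_eq_one.mp (Subgroup.orderOf_dvd_natCard K hd)] at h4
  obtain ⟨m, hm⟩ := hodd
  rw [hm, pow_succ, pow_mul, pow_two, hc2, one_pow, one_mul] at h4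
  have h5 : c = 1 := smul_left_injective ℂ (isUnit h he).ne_zero
    (by simpa using h4.symm : c • ρ e = (1 : ℂ) • ρ e)
  rw [h1, h5, one_smul]

/-- Orthogonal components permuted by `T`. -/
theorem lifts_of_permuted (h : Heis E ρ) {T L : Subgroup G} (hT : Acts T E ρ) (hL : Acts L E ρ)
    (hTL : ∀ t ∈ T, ∀ l ∈ L, t * l * t⁻¹ ∈ L) (h2 : IsPGroup 2 T) (hodd : Odd (Nat.card L))
    (hfpf : Fpf L E ρ) (hrec : LiftBelow.{u, v} G (Nat.card E)) (hirr : ¬ Reducible T L E ρ)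
    {X : Subgroup G} (hXL : X ≤ L) (hXn : ∀ l ∈ L, ∀ x ∈ X, l * x * l⁻¹ ∈ X)
    (hXns : ∃ a ∈ Fix h (hL.mono hXL), ¬ Sc ρ a)
    (hXmax : ∀ (Y : Subgroup G) (hY : Y ≤ L), X < Y → ∀ a ∈ Fix h (hL.mono hY), Sc ρ a)
    (hmove : ∃ t ∈ T, ∃ x ∈ X, t * x * t⁻¹ ∉ X) :
    Lifts T E ρ := by
  classical
  set F := Fix h (hL.mono hXL) with hF
  have hFE : F ≤ E := Fix_le h _
  have hFL : ∀ l ∈ L, ∀ a ∈ F, l * a * l⁻¹ ∈ F := fun l hl a ha =>
    conj_mem_Fix h _ hL hl (fun k hk => by simpa using hXn _ (L.inv_mem hl) k hk) ha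
  let N₀ : Subgroup T :=
    { carrier := {t | ∀ x : G, x ∈ X ↔ (t : G) * x * (t : G)⁻¹ ∈ X}
      one_mem' := fun x => by simp
      mul_mem' := fun {a b} ha hb x => by
        rw [hb x, ha ((b : G) * x * (b : G)⁻¹), Subgroup.coe_mul]; simp only [mul_inv_rev, mul_assoc]
      inv_mem' := fun {a} ha x => by
        rw [ha ((a⁻¹ : T) * x * ((a⁻¹ : T) : G)⁻¹), Subgroup.coe_inv,
          show (a : G) * ((a : G)⁻¹ * x * (a : G)⁻¹⁻¹) * (a : G)⁻¹ = x by group] }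
  have hN₀ : N₀ ≠ ⊤ := by
    intro e
    obtain ⟨t, ht, x, hx, hne⟩ := hmove
    have hmem : (⟨t, ht⟩ : T) ∈ N₀ := by rw [e]; exact Subgroup.mem_top _
    exact hne ((hmem x).mp hx)
  obtain ⟨M₀, hM₀, hle⟩ := (eq_top_or_exists_le_coatom N₀).resolve_left hN₀
  haveI : Fact (Nat.Prime 2) := ⟨Nat.prime_two⟩
  have hidx : M₀.index = 2 := BurnsideBasis.coatom_index h2 hM₀
  let M : Subgroup G := M₀.map T.subtype
  have hMT : M ≤ T := Subgroup.map_subtype_le M₀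
  have hMmem : ∀ g (hg : g ∈ T), g ∈ M ↔ (⟨g, hg⟩ : T) ∈ M₀ := fun g hg =>
    ⟨fun ⟨y, hy, hyg⟩ => by rwa [show (⟨g, hg⟩ : T) = y from Subtype.ext hyg.symm], fun hm => ⟨_, hm, rfl⟩⟩
  have hmove' : ∀ g ∈ T, g ∉ M → ∃ x ∈ X, g * x * g⁻¹ ∉ X := by
    intro g hg hgM
    by_contra hh
    push Not at hh
    refine hgM ((hMmem g hg).mpr (hle fun x => ⟨hh x, fun hx => ?_⟩))
    let φ : X → X := fun y => ⟨g * y * g⁻¹, hh y y.2⟩
    have hinj : Function.Injective φ := fun y z hyz => by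
      have := congrArg Subtype.val hyz
      simpa [φ] using this
    obtain ⟨y, hy⟩ := (Finite.injective_iff_surjective.mp hinj) ⟨_, hx⟩
    have h1 : g * (y : G) * g⁻¹ = g * x * g⁻¹ := congrArg Subtype.val hy
    rw [← mul_left_cancel (mul_right_cancel h1)]
    exact y.2
  obtain ⟨t₀, -, ht₀⟩ := SetLike.exists_of_lt (lt_top_iff_ne_top.mpr hM₀.1)
  obtain ⟨t, ht⟩ := t₀
  have htM : t ∉ M := fun hh => ht₀ ((hMmem t ht).mp hh)
  have hmul : ∀ a b (ha : a ∈ T) (hb : b ∈ T), a * b ∈ M ↔ (a ∈ M ↔ b ∈ M) := fun a b ha hb => by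
    rw [hMmem _ (T.mul_mem ha hb), hMmem a ha, hMmem b hb]
    exact Subgroup.mul_mem_iff_of_index_two hidx (a := ⟨a, ha⟩) (b := ⟨b, hb⟩)
  have htM' : t⁻¹ ∉ M := fun hh => htM (by simpa using M.inv_mem hh)
  have ht2 : t * t ∈ M := (hmul t t ht ht).mpr Iff.rfl
  have hMn : ∀ m ∈ M, t * m * t⁻¹ ∈ M := fun m hm =>
    (hmul _ _ (T.mul_mem ht (hMT hm)) (T.inv_mem ht)).mpr
      (iff_of_false (fun hh => htM ((M.mul_mem_cancel_right hm).mp hh)) htM')
  have hMn' : ∀ m ∈ M, t⁻¹ * m * t ∈ M := fun m hm =>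
    (hmul _ _ (T.mul_mem (T.inv_mem ht) (hMT hm)) ht).mpr
      (iff_of_false (fun hh => htM' ((M.mul_mem_cancel_right hm).mp hh)) htM)
  have hcos : ∀ g ∈ T, g ∉ M → g * t⁻¹ ∈ M := fun g hg hgM =>
    (hmul _ _ hg (T.inv_mem ht)).mpr (iff_of_false hgM htM')
  let E₁ : Subgroup G := Subgroup.closure {x | ∃ m ∈ M, ∃ f ∈ F, x = m * f * m⁻¹}
  let E₂ : Subgroup G := E₁.map (MulAut.conj t).toMonoidHom
  have h12 : ∀ x, x ∈ E₂ ↔ t⁻¹ * x * t ∈ E₁ := fun x => by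
    constructor
    · rintro ⟨y, hy, rfl⟩
      simpa [mul_assoc] using hy
    · intro hx
      exact ⟨_, hx, by simp [mul_assoc]⟩
  have hE1 : E₁ ≤ E := (Subgroup.closure_le _).mpr (by
    rintro x ⟨m, hm, f, hf, rfl⟩
    exact hT.norm m (hMT hm) f (hFE hf))
  have hE2 : E₂ ≤ E := fun x hx => by
    have h1 := hT.norm t ht _ (hE1 ((h12 x).mp hx))
    rwa [show t * (t⁻¹ * x * t) * t⁻¹ = x by group] at h1
  have hgenmem : ∀ m ∈ M, ∀ f ∈ F, m * f * m⁻¹ ∈ E₁ := fun m hm f hf =>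
    Subgroup.subset_closure ⟨m, hm, f, hf, rfl⟩
  have hM1 : ∀ m ∈ M, ∀ a ∈ E₁, m * a * m⁻¹ ∈ E₁ := by
    intro m hm a ha
    have hle' : E₁ ≤ E₁.comap (MulAut.conj m).toMonoidHom := (Subgroup.closure_le _).mpr (by
      rintro x ⟨m', hm', f, hf, rfl⟩
      show m * (m' * f * m'⁻¹) * m⁻¹ ∈ E₁
      rw [show m * (m' * f * m'⁻¹) * m⁻¹ = m * m' * f * (m * m')⁻¹ by group]
      exact hgenmem _ (M.mul_mem hm hm') f hf)
    exact hle' ha
  have hL1 : ∀ l ∈ L, ∀ a ∈ E₁, l * a * l⁻¹ ∈ E₁ := by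
    intro l hl a ha
    have hle' : E₁ ≤ E₁.comap (MulAut.conj l).toMonoidHom := (Subgroup.closure_le _).mpr (by
      rintro x ⟨m, hm, f, hf, rfl⟩
      show l * (m * f * m⁻¹) * l⁻¹ ∈ E₁
      rw [show l * (m * f * m⁻¹) * l⁻¹ = m * ((m⁻¹ * l * m) * f * (m⁻¹ * l * m)⁻¹) * m⁻¹ by group]
      have hl' : m⁻¹ * l * m ∈ L := by simpa using hTL _ (T.inv_mem (hMT hm)) l hl
      exact hgenmem m hm _ (hFL _ hl' f hf))
    exact hle' ha
  -- conjugates moved by `g` are orthogonal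
  have horth : ∀ g ∈ T, g ∉ M → ∀ f ∈ F, ∀ f' ∈ F, cm ρ f (g * f' * g⁻¹) = 1 := by
    intro g hg hgM f hf f' hf'
    obtain ⟨x₀, hx₀, hx₀'⟩ := hmove' g hg hgM
    let X' : Subgroup G := X.map (MulAut.conj g).toMonoidHom
    have hX'L : X' ≤ L := by
      rintro _ ⟨x, hx, rfl⟩
      exact hTL g hg x (hXL hx)
    let b := g * f' * g⁻¹
    have hb : b ∈ E := hT.norm g hg f' (hFE hf')
    have hbfix : ∀ k ∈ X', Sc ρ (b⁻¹ * (k * b * k⁻¹)) := by
      rintro _ ⟨x, hx, rfl⟩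
      show Sc ρ ((g * f' * g⁻¹)⁻¹ * (g * x * g⁻¹ * (g * f' * g⁻¹) * (g * x * g⁻¹)⁻¹))
      rw [show (g * f' * g⁻¹)⁻¹ * (g * x * g⁻¹ * (g * f' * g⁻¹) * (g * x * g⁻¹)⁻¹) =
        g * (f'⁻¹ * (x * f' * x⁻¹)) * g⁻¹ by group]
      exact sc_conj h hT hg (E.mul_mem (E.inv_mem (hFE hf')) (hL.norm x (hXL hx) f' (hFE hf'))) (hf'.2 x hx)
    have hnew : X < X ⊔ X' := lt_of_le_of_ne le_sup_left fun e =>
      hx₀' (by
        have : g * x₀ * g⁻¹ ∈ X ⊔ X' := Subgroup.mem_sup_right ⟨x₀, hx₀, rfl⟩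
        rwa [← e] at this)
    have key : f ∈ F ⊓ perp h {b} := by
      refine avg_mem h (W := F ⊓ perp h {b}) (hL.mono hX'L) (hodd.of_dvd_nat (Subgroup.card_dvd_of_le hX'L)) hFE
        (fun k hk => hFL k (hX'L hk)) (fun s hs hsc => ⟨hs, hFE hs, fun a _ ha => cm_of_sc_left h (hFE hs) ha hsc⟩)
        (fun a ha hall => ?_) hf (fun k hk => ?_)
      · have hsc : Sc ρ a := by
          refine hXmax (X ⊔ X') (sup_le hXL hX'L) hnew a ⟨hFE ha, fun k hk => ?_⟩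
          let St : Subgroup G :=
            { carrier := {k | k ∈ L ∧ Sc ρ (a⁻¹ * (k * a * k⁻¹))}
              one_mem' := ⟨L.one_mem, by simpa using sc_one h⟩
              mul_mem' := fun {x y} hx hy => ⟨L.mul_mem hx.1 hy.1, by
                rw [show a⁻¹ * (x * y * a * (x * y)⁻¹) =
                  (a⁻¹ * (x * a * x⁻¹)) * (x * (a⁻¹ * (y * a * y⁻¹)) * x⁻¹) by group]
                exact Sc.mul' h (E.mul_mem (E.inv_mem (hFE ha)) (hL.norm x hx.1 a (hFE ha)))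
                  (hL.norm x hx.1 _ (E.mul_mem (E.inv_mem (hFE ha)) (hL.norm y hy.1 a (hFE ha))))
                  hx.2 (sc_conj h hL hx.1 (E.mul_mem (E.inv_mem (hFE ha)) (hL.norm y hy.1 a (hFE ha))) hy.2)⟩
              inv_mem' := fun {x} hx => ⟨L.inv_mem hx.1, by
                rw [show a⁻¹ * (x⁻¹ * a * x⁻¹⁻¹) = x⁻¹ * (a⁻¹ * (x * a * x⁻¹))⁻¹ * x⁻¹⁻¹ by group]
                exact sc_conj h hL (L.inv_mem hx.1)
                  (E.inv_mem (E.mul_mem (E.inv_mem (hFE ha)) (hL.norm x hx.1 a (hFE ha))))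
                  (hx.2.inv' h (E.mul_mem (E.inv_mem (hFE ha)) (hL.norm x hx.1 a (hFE ha))))⟩ }
          have hle' : X ⊔ X' ≤ St := sup_le (fun k hk => ⟨hXL hk, ha.2 k hk⟩) (fun k hk => ⟨hX'L hk, hall k hk⟩)
          exact (hle' hk).2
        exact ⟨ha, hFE ha, fun c _ hc => cm_of_sc_left h (hFE ha) hc hsc⟩
      · have hfE := hFE hf
        have hkl := hX'L hk
        refine ⟨F.mul_mem (F.inv_mem hf) (hFL k hkl f hf), E.mul_mem (E.inv_mem hfE) (hL.norm k hkl f hfE),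
          fun c hc hcE => ?_⟩
        rw [Set.mem_singleton_iff] at hc
        subst hc
        have e1 : cm ρ (k * f * k⁻¹) b = cm ρ f b := by
          rw [← cm_conj h hL hkl hfE hb, show k * b * k⁻¹ = b * (b⁻¹ * (k * b * k⁻¹)) by group,
            cm_mul_right h (hL.norm k hkl f hfE) hb (E.mul_mem (E.inv_mem hb) (hL.norm k hkl b hb)),
            cm_of_sc_right h (hL.norm k hkl f hfE) (E.mul_mem (E.inv_mem hb) (hL.norm k hkl b hb)) (hbfix k hk),
            mul_one]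
        rw [cm_mul_left h (E.inv_mem hfE) (hL.norm k hkl f hfE) hb, e1,
          ← cm_mul_left h (E.inv_mem hfE) hfE hb, inv_mul_cancel, cm_of_sc_left h E.one_mem hb (sc_one h)]
    exact key.2.2 b rfl hb
  have hcom : ∀ a ∈ E₁, ∀ b ∈ E₂, cm ρ a b = 1 := by
    have h3 : E₁ ≤ perp h (E₂ : Set G) := (Subgroup.closure_le _).mpr (by
      rintro x ⟨m, hm, f, hf, rfl⟩
      have hxE := hT.norm m (hMT hm) f (hFE hf)
      refine ⟨hxE, fun b hb hbE => ?_⟩
      obtain ⟨y, hy, rfl⟩ := hb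
      have h4 : E₁ ≤ (perp h {m * f * m⁻¹}).comap (MulAut.conj t).toMonoidHom :=
        (Subgroup.closure_le _).mpr (by
          rintro z ⟨m', hm', f', hf', rfl⟩
          show t * (m' * f' * m'⁻¹) * t⁻¹ ∈ perp h {m * f * m⁻¹}
          have hzE := hT.norm t ht _ (hT.norm m' (hMT hm') f' (hFE hf'))
          refine ⟨hzE, fun c hc hcE => ?_⟩
          rw [Set.mem_singleton_iff] at hc
          subst hc
          rw [cm_symm h hzE hcE]
          have hgT : m⁻¹ * t * m' ∈ T := T.mul_mem (T.mul_mem (T.inv_mem (hMT hm)) ht) (hMT hm')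
          have hgM : m⁻¹ * t * m' ∉ M := fun hh =>
            htM ((M.mul_mem_cancel_left (M.inv_mem hm)).mp ((M.mul_mem_cancel_right hm').mp hh))
          have h5 := cm_conj h hT (hMT hm) (hFE hf) (hT.norm _ hgT f' (hFE hf'))
          rw [horth _ hgT hgM f hf f' hf', show m * (m⁻¹ * t * m' * f' * (m⁻¹ * t * m')⁻¹) * m⁻¹ =
            t * (m' * f' * m'⁻¹) * t⁻¹ by group] at h5
          exact h5)
      have h6 := (h4 hy).2 _ rfl hxE
      rw [cm_symm h hxE hbE]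
      exact h6)
    exact fun a ha b hb => (h3 ha).2 b hb (hE2 hb)
  obtain ⟨f₀, hf₀, hf₀ns⟩ := hXns
  have hgen : E ≤ E₁ ⊔ E₂ := by
    let W : Subgroup G := Subgroup.closure ({x | ∃ g ∈ T, ∃ f ∈ F, x = g * f * g⁻¹})
    have hWle : W ≤ E₁ ⊔ E₂ := (Subgroup.closure_le _).mpr (by
      rintro x ⟨g, hg, f, hf, rfl⟩
      by_cases hgM : g ∈ M
      · exact Subgroup.mem_sup_left (hgenmem g hgM f hf)
      · refine Subgroup.mem_sup_right ((h12 _).mpr ?_)
        rw [show t⁻¹ * (g * f * g⁻¹) * t = t⁻¹ * g * f * (t⁻¹ * g)⁻¹ by group]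
        exact hgenmem _ ((hmul _ _ (T.inv_mem ht) hg).mpr (iff_of_false htM' hgM)) f hf)
    have hWE : W ≤ E := hWle.trans (sup_le hE1 hE2)
    refine le_trans ?_ hWle
    by_contra hne
    obtain ⟨e, he, heW⟩ := SetLike.not_le_iff_exists.mp hne
    apply hirr
    have hFW : F ≤ W := fun f hf => Subgroup.subset_closure ⟨1, T.one_mem, f, hf, by group⟩
    refine ⟨W, hWE, fun s hs hsc => hFW (mem_Fix_of_sc h _ hs hsc), ⟨f₀, hFW hf₀, hf₀ns⟩, ⟨e, he, heW⟩, ?_, ?_⟩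
    · intro g hg a ha
      have hle' : W ≤ W.comap (MulAut.conj g).toMonoidHom := (Subgroup.closure_le _).mpr (by
        rintro x ⟨g', hg', f, hf, rfl⟩
        show g * (g' * f * g'⁻¹) * g⁻¹ ∈ W
        exact Subgroup.subset_closure ⟨g * g', T.mul_mem hg hg', f, hf, by group⟩)
      exact hle' ha
    · intro l hl a ha
      have hle' : W ≤ W.comap (MulAut.conj l).toMonoidHom := (Subgroup.closure_le _).mpr (by
        rintro x ⟨g, hg, f, hf, rfl⟩
        show l * (g * f * g⁻¹) * l⁻¹ ∈ W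
        have hl' : g⁻¹ * l * g ∈ L := by simpa using hTL _ (T.inv_mem hg) l hl
        exact Subgroup.subset_closure ⟨g, hg, _, hFL _ hl' f hf, by group⟩)
      exact hle' ha
  have hlt : Nat.card E₁ < Nat.card E := by
    refine lt_of_le_of_ne (Subgroup.card_le_of_le hE1) fun e => ?_
    have heq := Subgroup.eq_of_le_of_card_ge hE1 e.ge
    have hy : t * f₀ * t⁻¹ ∈ E₂ := (h12 _).mpr (by
      rw [show t⁻¹ * (t * f₀ * t⁻¹) * t = 1 * f₀ * 1⁻¹ by group]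
      exact hgenmem 1 M.one_mem f₀ hf₀)
    have hsc : Sc ρ (t * f₀ * t⁻¹) := sc_of_forall_cm h (hE2 hy) fun b hb => by
      rw [cm_symm h (hE2 hy) hb]
      exact hcom b (by rw [heq]; exact hb) _ hy
    apply hf₀ns
    have := sc_conj h hT (T.inv_mem ht) (hE2 hy) hsc
    rwa [show t⁻¹ * (t * f₀ * t⁻¹) * t⁻¹⁻¹ = f₀ by group] at this
  refine lifts_of_swap h hT hL hfpf hMT ht htM ht2 hMn hMn' hcos hE1 hE2 hgen hcom h12 hlt hM1 hL1 ?_
  exact fun U E' ρ' hlt hh hT' hK' hf => hrec U E' ρ' M L hlt hh hT' hK'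
    (fun m hm => hTL m (hMT hm)) (h2.to_le hMT) hodd hf

end Cfsg.Agent.HeisenbergLift
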