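/-
The lifting theorem: a 2-group acting on a representation of Heisenberg type of a 2-group lifts,
as soon as it normalises a group of odd order without fixed points modulo scalars.
-/
import Cfsg.Agent.Lib.HeisenbergLift.Base
import Cfsg.Agent.Lib.OddOrderTheorem.Basic

set_option autoImplicit false
set_option linter.style.haveILetI false
set_option linter.unusedSectionVars false

namespace Cfsg.Agent.HeisenbergLift

open Module

universe u v

variable {G : Type u} [Group G] {V : Type v} [AddCommGroup V] [Module ℂ V]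
  [FiniteDimensional ℂ V] {E : Subgroup G} {ρ : G → Module.End ℂ V}

/-- The conjugation action of `N` on `E` modulo scalars. -/
lemma exists_quot_action (h : Heis E ρ) {N : Subgroup G} (hN : Acts N E ρ)
    [((scSub h).subgroupOf E).Normal] :
    ∃ ψ : N →* MulAut (E ⧸ (scSub h).subgroupOf E),
      ∀ (n : N) (e : E), ψ n (e : E ⧸ (scSub h).subgroupOf E) =
        ((⟨(n : G) * e * (n : G)⁻¹, hN.norm n n.2 e e.2⟩ : E) : E ⧸ (scSub h).subgroupOf E) := by
  set S := (scSub h).subgroupOf E with hSdef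
  let c : N → (E →* E) := fun n =>
    { toFun := fun a => ⟨(n : G) * a * (n : G)⁻¹, hN.norm n n.2 a a.2⟩
      map_one' := by ext; simp
      map_mul' := fun a b => by ext; simp [mul_assoc] }
  have hcS : ∀ n : N, S ≤ S.comap (c n) := fun n a ha =>
    ⟨hN.norm n n.2 a a.2, sc_conj h hN n.2 a.2 ha.2⟩
  let f : N → (E ⧸ S →* E ⧸ S) := fun n => QuotientGroup.map S S (c n) (hcS n)
  have hf : ∀ m n : N, ∀ x, f m (f n x) = f (m * n) x := fun m n x => by
    obtain ⟨a, rfl⟩ := QuotientGroup.mk_surjective x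
    show ((c m (c n a) : E) : E ⧸ S) = ((c (m * n) a : E) : E ⧸ S)
    congr 1
    ext; simp [c, mul_assoc]
  have hf1 : ∀ x, f 1 x = x := fun x => by
    obtain ⟨a, rfl⟩ := QuotientGroup.mk_surjective x
    show ((c 1 a : E) : E ⧸ S) = (a : E ⧸ S)
    congr 1
    ext; simp [c]
  let g : N → MulAut (E ⧸ S) := fun n =>
    { toFun := f n
      invFun := f n⁻¹
      left_inv := fun x => by rw [hf, inv_mul_cancel, hf1]
      right_inv := fun x => by rw [hf, mul_inv_cancel, hf1]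
      map_mul' := map_mul (f n) }
  refine ⟨{ toFun := g, map_one' := MulEquiv.ext hf1, map_mul' := fun m n => MulEquiv.ext fun x => (hf m n x).symm },
    fun n e => rfl⟩

variable [Finite G]

/-- All non-trivial elements of `L` act without fixed points. -/
theorem lifts_of_fpf (h : Heis E ρ) {T L : Subgroup G} (hT : Acts T E ρ) (hL : Acts L E ρ)
    (hTL : ∀ t ∈ T, ∀ l ∈ L, t * l * t⁻¹ ∈ L) (h2 : IsPGroup 2 T) (hodd : Odd (Nat.card L))
    (hfpf : Fpf L E ρ) (hrec : LiftBelow.{u, v} G (Nat.card E))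
    (hns : ∃ e ∈ E, ¬ Sc ρ e)
    (hab : ∀ a ∈ L, ∀ b ∈ L, ∀ e ∈ E, Sc ρ (e⁻¹ * (a * b * a⁻¹ * b⁻¹ * e * (a * b * a⁻¹ * b⁻¹)⁻¹)))
    (hfree : ∀ l ∈ L, (∃ e ∈ E, ¬ Sc ρ (e⁻¹ * (l * e * l⁻¹))) →
      ∀ a ∈ E, Sc ρ (a⁻¹ * (l * a * l⁻¹)) → Sc ρ a) :
    Lifts T E ρ := by
  classical
  let N := T ⊔ L
  have hN : Acts N E ρ := Acts.sup h hT hL
  let S : Subgroup E := (scSub h).subgroupOf E
  have hS : ∀ x : E, x ∈ S ↔ Sc ρ (x : G) := fun x => ⟨fun hx => hx.2, fun hx => ⟨x.2, hx⟩⟩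
  haveI : S.Normal := ⟨fun n hn g => (hS _).mpr (sc_conj_inner h g.2 n.2 ((hS n).mp hn))⟩
  letI : CommGroup (E ⧸ S) :=
    { (inferInstance : Group (E ⧸ S)) with
      mul_comm := fun x y => by
        obtain ⟨a, rfl⟩ := QuotientGroup.mk_surjective x
        obtain ⟨b, rfl⟩ := QuotientGroup.mk_surjective y
        rw [← QuotientGroup.mk_mul, ← QuotientGroup.mk_mul, eq_comm, QuotientGroup.eq,
          show (b * a)⁻¹ * (a * b) = a⁻¹ * b⁻¹ * a⁻¹⁻¹ * b⁻¹⁻¹ by group]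
        exact (hS _).mpr (h.comm _ (E.inv_mem a.2) _ (E.inv_mem b.2)) }
  haveI : Nontrivial (E ⧸ S) := by
    obtain ⟨e, he, hne⟩ := hns
    exact ⟨⟨((⟨e, he⟩ : E) : E ⧸ S), 1, fun h1 => hne ((hS _).mp ((QuotientGroup.eq_one_iff _).mp h1))⟩⟩
  have hQ2 : IsPGroup 2 (E ⧸ S) := fun x => ⟨1, by
    obtain ⟨a, rfl⟩ := QuotientGroup.mk_surjective x
    rw [pow_one, pow_two, ← QuotientGroup.mk_mul, QuotientGroup.eq_one_iff, hS]
    exact h.sq a a.2⟩
  obtain ⟨ψ, hψ⟩ := exists_quot_action h hN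
  have hψfix : ∀ (n : N) (e : E), ψ n (e : E ⧸ S) = e ↔ Sc ρ ((e : G)⁻¹ * ((n : G) * e * (n : G)⁻¹)) := by
    intro n e
    rw [hψ, eq_comm, QuotientGroup.eq, hS]
    rfl
  have hψone : ∀ n : N, ψ n = 1 ↔ ∀ e ∈ E, Sc ρ (e⁻¹ * ((n : G) * e * (n : G)⁻¹)) := by
    intro n
    refine ⟨fun h1 e he => (hψfix n ⟨e, he⟩).mp (by rw [h1]; rfl), fun h1 => MulEquiv.ext fun x => ?_⟩
    obtain ⟨a, rfl⟩ := QuotientGroup.mk_surjective x
    exact (hψfix n a).mpr (h1 a a.2)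
  let ι : L →* N := Subgroup.inclusion le_sup_right
  let φ : L →* MulAut (E ⧸ S) := ψ.comp ι
  haveI : IsMulCommutative φ.range := ⟨⟨by
    rintro ⟨_, a, rfl⟩ ⟨_, b, rfl⟩
    apply Subtype.ext
    show φ a * φ b = φ b * φ a
    have h1 : φ (a * b * a⁻¹ * b⁻¹) = 1 := (hψone _).mpr (fun e he => hab a a.2 b b.2 e he)
    rw [map_mul, map_mul, map_mul, map_inv, map_inv, mul_inv_eq_one, mul_inv_eq_iff_eq_mul] at h1
    exact h1⟩⟩
  have hfreeQ : ∀ l : L, φ l ≠ 1 → ∀ x, φ l x = x → x = 1 := by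
    intro l hl x hx
    obtain ⟨a, rfl⟩ := QuotientGroup.mk_surjective x
    rw [QuotientGroup.eq_one_iff, hS]
    refine hfree l l.2 ?_ a a.2 ((hψfix (ι l) a).mp hx)
    by_contra hh
    push Not at hh
    exact hl ((hψone (ι l)).mpr hh)
  obtain ⟨k, hk⟩ := hQ2.exists_card_eq
  have hsmall : Frobenius.SmallCyclic φ.range := by
    intro p q hp hq B hB
    refine Frobenius.isCyclic_of_card_mul_primes ((Subgroup.subtype φ.range).comp B.subtype) ?_ ?_ hp hq hB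
    · intro b hb x hx
      obtain ⟨l, hl⟩ := ((b : φ.range)).2
      refine hfreeQ l (fun h1 => hb ?_) x (by rw [hl]; exact hx)
      exact Subtype.ext (Subtype.ext (hl.symm.trans h1))
    · rw [hk]
      refine Nat.Coprime.pow_right _ ?_
      rw [Nat.coprime_two_right]
      exact hodd.of_dvd_nat ((Subgroup.card_subgroup_dvd_card B).trans (Subgroup.card_range_dvd φ))
  haveI : IsCyclic φ.range := hsmall.isCyclic_of_isMulCommutative
  have hns_ne : Nat.card φ.range ≠ 1 := by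
    intro h1
    obtain ⟨e, he, hne⟩ := hns
    refine hne (hfpf e he fun l hl => ?_)
    have h2' : φ ⟨l, hl⟩ = 1 := by
      have : φ ⟨l, hl⟩ ∈ φ.range := ⟨_, rfl⟩
      rwa [Subgroup.eq_bot_of_card_eq _ h1, Subgroup.mem_bot] at this
    exact (hψone _).mp h2' e he
  obtain ⟨q, hq, hqd⟩ := Nat.exists_prime_and_dvd hns_ne
  have hcomφ : ∀ a b : L, φ a * φ b = φ b * φ a := fun a b =>
    congrArg Subtype.val (mul_comm' (⟨φ a, a, rfl⟩ : φ.range) ⟨φ b, b, rfl⟩)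
  let L₁ : Subgroup G :=
    { carrier := {l | ∃ hl : l ∈ L, φ ⟨l, hl⟩ ^ q = 1}
      one_mem' := ⟨L.one_mem, by rw [show (⟨1, L.one_mem⟩ : L) = 1 from rfl, map_one, one_pow]⟩
      mul_mem' := fun {a b} ⟨ha, ha'⟩ ⟨hb, hb'⟩ => ⟨L.mul_mem ha hb, by
        rw [show (⟨a * b, L.mul_mem ha hb⟩ : L) = ⟨a, ha⟩ * ⟨b, hb⟩ from rfl, map_mul,
          Commute.mul_pow (hcomφ _ _), ha', hb', one_mul]⟩
      inv_mem' := fun {a} ⟨ha, ha'⟩ => ⟨L.inv_mem ha, by
        rw [show (⟨a⁻¹, L.inv_mem ha⟩ : L) = ⟨a, ha⟩⁻¹ from rfl, map_inv, inv_pow, ha', inv_one]⟩ }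
  have hL₁L : L₁ ≤ L := fun l hl => hl.1
  have hTL₁ : ∀ t ∈ T, ∀ l ∈ L₁, t * l * t⁻¹ ∈ L₁ := by
    rintro t ht l ⟨hl, hl'⟩
    refine ⟨hTL t ht l hl, ?_⟩
    have e1 : φ ⟨t * l * t⁻¹, hTL t ht l hl⟩ =
        ψ ⟨t, Subgroup.mem_sup_left ht⟩ * φ ⟨l, hl⟩ * (ψ ⟨t, Subgroup.mem_sup_left ht⟩)⁻¹ := by
      rw [← map_inv]
      show ψ _ = _ * ψ _ * _
      rw [← map_mul, ← map_mul]
      rfl
    rw [e1, conj_pow, hl', mul_one, mul_inv_cancel]
  haveI : Fintype φ.range := Fintype.ofFinite _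
  haveI : Fact q.Prime := ⟨hq⟩
  obtain ⟨z, hz⟩ := exists_prime_orderOf_dvd_card' q hqd
  obtain ⟨l₀, hl₀⟩ := z.2
  have hzo : orderOf (φ l₀) = q := by rw [hl₀, Subgroup.orderOf_coe, hz]
  have hgenz : ∀ l : G, ∀ hl : l ∈ L₁, φ ⟨l, hL₁L hl⟩ ∈ Subgroup.zpowers (φ l₀) := by
    intro l hl
    obtain ⟨hlL, hl'⟩ := hl
    have hcardle : (Finset.univ.filter fun x : φ.range => x ^ q = 1).card ≤ q :=
      IsCyclic.card_pow_eq_one_le hq.pos
    have hsub : (Finset.univ.filter fun x : φ.range => x ∈ Subgroup.zpowers z) ⊆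
        Finset.univ.filter fun x : φ.range => x ^ q = 1 := by
      intro x hx
      simp only [Finset.mem_filter, Finset.mem_univ, true_and] at hx ⊢
      obtain ⟨i, rfl⟩ := hx
      show (z ^ i) ^ q = 1
      rw [← zpow_natCast, ← zpow_mul, mul_comm, zpow_mul, zpow_natCast, ← hz, pow_orderOf_eq_one, one_zpow]
    have hc : (Finset.univ.filter fun x : φ.range => x ∈ Subgroup.zpowers z).card = q := by
      rw [← Fintype.card_subtype, ← Nat.card_eq_fintype_card, ← hz, ← Nat.card_zpowers]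
    have heq := Finset.eq_of_subset_of_card_le hsub (by rw [hc]; exact hcardle)
    have hmem : (⟨φ ⟨l, hlL⟩, _, rfl⟩ : φ.range) ∈ Subgroup.zpowers z := by
      have : (⟨φ ⟨l, hlL⟩, _, rfl⟩ : φ.range) ∈ Finset.univ.filter fun x : φ.range => x ^ q = 1 := by
        simp only [Finset.mem_filter, Finset.mem_univ, true_and]
        exact Subtype.ext hl'
      rw [← heq] at this
      simpa using this
    obtain ⟨i, hi⟩ := hmem
    exact ⟨i, by rw [hl₀]; exact congrArg Subtype.val hi⟩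
  have hl₀1 : (l₀ : G) ∈ L₁ := ⟨l₀.2, by
    show φ l₀ ^ q = 1
    rw [← hzo, pow_orderOf_eq_one]⟩
  have hfpf₁ : Fpf L₁ E ρ := fun e he hall => by
    refine hfree l₀ l₀.2 ?_ e he (hall _ hl₀1)
    by_contra hh
    push Not at hh
    rw [(hψone (ι l₀)).mpr hh |> (show φ l₀ = 1 from ·), orderOf_one] at hzo
    exact hq.ne_one hzo.symm
  have hodd₁ : Odd (Nat.card L₁) := hodd.of_dvd_nat (Subgroup.card_dvd_of_le hL₁L)
  have hL₁ := hL.mono hL₁L
  by_cases hred : Reducible T L₁ E ρ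
  · exact lifts_of_invariant h hT hL₁ hTL₁ h2 hodd₁ hfpf₁ hrec hred
  -- the irreducible case: the centraliser of `L₁` in `T` acts trivially
  let jT : T →* N := Subgroup.inclusion le_sup_left
  let Z : Subgroup (MulAut (E ⧸ S)) := Subgroup.zpowers (φ l₀)
  let C : Subgroup T :=
    { carrier := {t | ψ (jT t) * φ l₀ = φ l₀ * ψ (jT t)}
      one_mem' := by simp
      mul_mem' := fun {a b} ha hb => by
        rw [Set.mem_setOf_eq] at ha hb ⊢
        rw [map_mul, map_mul, mul_assoc, hb, ← mul_assoc, ha, mul_assoc]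
      inv_mem' := fun {a} ha => by
        rw [Set.mem_setOf_eq] at ha ⊢
        rw [map_inv, map_inv]
        exact (Commute.inv_left ha : _) }
  have hTZ : ∀ t : T, ∀ x ∈ Z, ψ (jT t) * x * (ψ (jT t))⁻¹ ∈ Z := by
    intro t x hx
    obtain ⟨i, rfl⟩ := hx
    show ψ (jT t) * φ l₀ ^ i * (ψ (jT t))⁻¹ ∈ Z
    rw [← conj_zpow]
    refine Z.zpow_mem ?_ i
    rw [show ψ (jT t) * φ l₀ * (ψ (jT t))⁻¹ = φ ⟨(t : G) * l₀ * (t : G)⁻¹, hTL t t.2 l₀ l₀.2⟩ by
      rw [← map_inv]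
      show _ * ψ _ * _ = ψ _
      rw [← map_mul, ← map_mul]
      rfl]
    exact hgenz _ (hTL₁ t t.2 _ hl₀1)
  let θ : T →* MulAut Z :=
    MonoidHom.mk' (fun t =>
      { toFun := fun x => ⟨ψ (jT t) * x * (ψ (jT t))⁻¹, hTZ t x x.2⟩
        invFun := fun x => ⟨(ψ (jT t))⁻¹ * x * ψ (jT t), by
          have h3 := hTZ t⁻¹ x x.2
          rwa [map_inv, map_inv, inv_inv] at h3⟩
        left_inv := fun x => by ext1; simp [mul_assoc]
        right_inv := fun x => by ext1; simp [mul_assoc]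
        map_mul' := fun x y => by ext1; simp [mul_assoc] })
      (fun a b => MulEquiv.ext fun x => Subtype.ext (by simp [mul_assoc]))
  have hker : θ.ker = C := by
    ext t
    constructor
    · intro ht
      have h1 := congrArg Subtype.val (DFunLike.congr_fun (show θ t = 1 from ht) ⟨φ l₀, Subgroup.mem_zpowers _⟩)
      exact mul_inv_eq_iff_eq_mul.mp h1
    · intro ht
      refine MulEquiv.ext fun x => Subtype.ext ?_
      obtain ⟨i, hi⟩ := x.2
      show ψ (jT t) * (x : MulAut (E ⧸ S)) * (ψ (jT t))⁻¹ = x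
      rw [← hi]
      exact mul_inv_eq_iff_eq_mul.mpr ((show Commute (ψ (jT t)) (φ l₀) from ht).zpow_right i)
  haveI : C.Normal := hker ▸ θ.normal_ker
  haveI : IsCyclic (MulAut Z) := by
    have hcard : Nat.card Z = q := by rw [Nat.card_zpowers, hzo]
    haveI : IsCyclic (ZMod (Nat.card Z))ˣ := by rw [hcard]; infer_instance
    exact isCyclic_of_surjective (IsCyclic.mulAutMulEquiv Z).symm (IsCyclic.mulAutMulEquiv Z).symm.surjective
  haveI : IsCyclic (T ⧸ C) := by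
    haveI : IsCyclic θ.range := Subgroup.isCyclic _
    let e : T ⧸ C ≃* θ.range :=
      (QuotientGroup.quotientMulEquivOfEq hker.symm).trans (QuotientGroup.quotientKerEquivRange θ)
    exact isCyclic_of_surjective e.symm e.symm.surjective
  have htrivC : ∀ c ∈ C, ∀ e ∈ E, ρ ((c : G) * e * (c : G)⁻¹) = ρ e := by
    let W : Subgroup G := Fix h (hT.mono (Subgroup.map_subtype_le C))
    have hWmem : ∀ e ∈ E, e ∈ W ↔ ∀ c ∈ C, Sc ρ (e⁻¹ * ((c : G) * e * (c : G)⁻¹)) := fun e he =>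
      ⟨fun hw c hc => hw.2 c ⟨c, hc, rfl⟩, fun hw => ⟨he, by rintro _ ⟨c, hc, rfl⟩; exact hw c hc⟩⟩
    have hWns : ∃ a ∈ W, ¬ Sc ρ a := by
      letI : MulAction C (E ⧸ S) := MulAction.compHom _ ((ψ.comp jT).comp C.subtype)
      have hC2 : IsPGroup 2 C := h2.to_subgroup C
      haveI : Fact (Nat.Prime 2) := ⟨Nat.prime_two⟩
      have hfix1 : (1 : E ⧸ S) ∈ MulAction.fixedPoints C (E ⧸ S) := fun c => map_one (ψ (jT c))
      have hk0 : k ≠ 0 := by
        rintro rfl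
        rw [pow_zero] at hk
        exact (Finite.one_lt_card (α := E ⧸ S)).ne' hk
      obtain ⟨x, hx, hx1⟩ := hC2.exists_fixed_point_of_prime_dvd_card_of_fixed_point (E ⧸ S)
        (hk ▸ dvd_pow_self 2 hk0) hfix1
      obtain ⟨a, rfl⟩ := QuotientGroup.mk_surjective x
      refine ⟨a, (hWmem a a.2).mpr fun c hc => (hψfix (jT c) a).mp (hx ⟨c, hc⟩), fun hsc => hx1 ?_⟩
      exact ((QuotientGroup.eq_one_iff _).mpr ((hS a).mpr hsc)).symm
    have hCQ : ∀ c ∈ C, ψ (jT c) = 1 := by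
      intro c hc
      rw [hψone]
      intro e he
      by_contra hne
      refine hred ⟨W, Fix_le h _, fun s hs hsc => mem_Fix_of_sc h _ hs hsc, hWns,
        ⟨e, he, fun hw => hne ((hWmem e he).mp hw c hc)⟩, fun t ht a ha => ?_, fun l hl a ha => ?_⟩
      · refine conj_mem_Fix h _ hT ht (fun x hx => ?_) ha
        obtain ⟨c', hc', rfl⟩ := hx
        refine ⟨⟨t, ht⟩⁻¹ * c' * ⟨t, ht⟩, ?_, by simp⟩
        simpa using (inferInstance : C.Normal).conj_mem c' hc' ⟨t, ht⟩⁻¹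
      · have hlW := hL.norm l (hL₁L hl) a ha.1
        refine (hWmem _ hlW).mpr fun c' hc' => ?_
        have hcm : ψ (jT c') * φ ⟨l, hL₁L hl⟩ = φ ⟨l, hL₁L hl⟩ * ψ (jT c') := by
          obtain ⟨i, hi⟩ := hgenz l hl
          rw [← hi]
          exact (show Commute (ψ (jT c')) (φ l₀) from hc').zpow_right i
        refine (hψfix (jT c') ⟨_, hlW⟩).mp ?_
        have e1 : ((⟨l * a * l⁻¹, hlW⟩ : E) : E ⧸ S) = φ ⟨l, hL₁L hl⟩ ((⟨a, ha.1⟩ : E) : E ⧸ S) :=
          (hψ (ι ⟨l, hL₁L hl⟩) ⟨a, ha.1⟩).symm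
        rw [e1, ← MulAut.mul_apply, hcm, MulAut.mul_apply,
          (hψfix (jT c') ⟨a, ha.1⟩).mpr ((hWmem a ha.1).mp ha c' hc')]
    intro c hc
    have hcg : ∀ e ∈ E, Sc ρ (e⁻¹ * ((c : G) * e * (c : G)⁻¹)) := (hψone _).mp (hCQ c hc)
    have hcn : ∀ e ∈ E, (c : G) * e * (c : G)⁻¹ ∈ E := fun e he => hT.norm c c.2 e he
    let W' : Subgroup G :=
      { carrier := {e | e ∈ E ∧ ρ ((c : G) * e * (c : G)⁻¹) = ρ e}
        one_mem' := ⟨E.one_mem, by simp⟩
        mul_mem' := fun {a b} ha hb => ⟨E.mul_mem ha.1 hb.1, by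
          rw [show (c : G) * (a * b) * (c : G)⁻¹ = (c : G) * a * (c : G)⁻¹ * ((c : G) * b * (c : G)⁻¹) by group,
            h.mul _ (hcn a ha.1) _ (hcn b hb.1), ha.2, hb.2, h.mul a ha.1 b hb.1]⟩
        inv_mem' := fun {a} ha => ⟨E.inv_mem ha.1, by
          refine left_inv_eq_right_inv (a := ρ a) ?_ (mul_inv_self h ha.1)
          rw [← ha.2, ← h.mul _ (hcn _ (E.inv_mem ha.1)) _ (hcn a ha.1),
            show (c : G) * a⁻¹ * (c : G)⁻¹ * ((c : G) * a * (c : G)⁻¹) = 1 by group, h.one]⟩ }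
    intro e he
    refine (avg_mem h (W := W') hL₁ hodd₁ le_rfl hL₁.norm (fun s hs hsc => ⟨hs, hT.fix c c.2 s hs hsc⟩)
      (fun b hb hall => ⟨hb, hT.fix c c.2 b hb (hfpf₁ b hb hall)⟩) he (fun l hl => ?_)).2
    have hlL := hL₁L hl
    have hle := hL.norm l hlL e he
    refine ⟨E.mul_mem (E.inv_mem he) hle, ?_⟩
    obtain ⟨χ, hχ⟩ : ∃ χ : ℂ, ρ ((c : G) * e * (c : G)⁻¹) = χ • ρ e := by
      obtain ⟨χ, hχ⟩ := hcg e he
      refine ⟨χ, ?_⟩
      rw [show (c : G) * e * (c : G)⁻¹ = e * (e⁻¹ * ((c : G) * e * (c : G)⁻¹)) by group,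
        h.mul e he _ (E.mul_mem (E.inv_mem he) (hcn e he)), hχ, mul_smul_comm, mul_one]
    let v := (c : G)⁻¹ * l⁻¹ * c * l
    have hv : v ∈ L₁ := by
      have h4 := hTL₁ _ (T.inv_mem c.2) _ (L₁.inv_mem hl)
      rw [inv_inv] at h4
      exact L₁.mul_mem h4 hl
    have hvtriv : ∀ x ∈ E, Sc ρ (x⁻¹ * (v * x * v⁻¹)) := by
      have h5 : ψ ⟨v, Subgroup.mem_sup_right (hL₁L hv)⟩ = 1 := by
        rw [show (⟨v, Subgroup.mem_sup_right (hL₁L hv)⟩ : N) = (jT c)⁻¹ * (ι ⟨l, hlL⟩)⁻¹ * jT c * ι ⟨l, hlL⟩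
          from rfl, map_mul, map_mul, map_mul, map_inv, map_inv, hCQ c hc]
        simp
      exact (hψone _).mp h5
    have hve : ρ (v * e * v⁻¹) = ρ e := act_trivial h hL₁ hodd₁ hv hvtriv he
    have hvE := hL.norm v (hL₁L hv) e he
    have h6 : ρ ((c : G) * (v * e * v⁻¹) * (c : G)⁻¹) = χ • ρ e := by
      rw [← hχ, conj_congr h hT c.2 hvE he (c := 1) (by rw [one_smul, hve]), one_smul]
    have h7 := conj_congr h hL hlL (hcn _ hvE) he h6
    rw [show l * ((c : G) * (v * e * v⁻¹) * (c : G)⁻¹) * l⁻¹ = (c : G) * (l * e * l⁻¹) * (c : G)⁻¹ by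
      simp only [v]; group] at h7
    obtain ⟨χ', hχ'⟩ : ∃ χ' : ℂ, ρ ((c : G) * e⁻¹ * (c : G)⁻¹) = χ' • ρ e⁻¹ := by
      obtain ⟨χ', hχ'⟩ := hcg _ (E.inv_mem he)
      refine ⟨χ', ?_⟩
      rw [show (c : G) * e⁻¹ * (c : G)⁻¹ = e⁻¹ * (e⁻¹⁻¹ * ((c : G) * e⁻¹ * (c : G)⁻¹)) by group,
        h.mul _ (E.inv_mem he) _ (E.mul_mem (E.inv_mem (E.inv_mem he)) (hcn _ (E.inv_mem he))), hχ',
        mul_smul_comm, mul_one]
    have h8 : χ' * χ = 1 := by
      refine smul_one_inj h ?_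
      rw [one_smul, ← inv_mul_self h he, ← smul_mul_smul_comm, ← hχ', ← hχ, ← h.mul _ (hcn _ (E.inv_mem he)) _ (hcn e he),
        show (c : G) * e⁻¹ * (c : G)⁻¹ * ((c : G) * e * (c : G)⁻¹) = 1 by group, h.one, inv_mul_self h he]
    rw [show (c : G) * (e⁻¹ * (l * e * l⁻¹)) * (c : G)⁻¹ =
        (c : G) * e⁻¹ * (c : G)⁻¹ * ((c : G) * (l * e * l⁻¹) * (c : G)⁻¹) by group,
      h.mul _ (hcn _ (E.inv_mem he)) _ (hcn _ hle), hχ', h7, smul_mul_smul_comm, h8, one_smul,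
      h.mul _ (E.inv_mem he) _ hle]
  -- lift from a generator of the quotient
  haveI := h.nontrivial
  obtain ⟨g, hg⟩ := IsCyclic.exists_generator (α := T ⧸ C)
  obtain ⟨g₀, rfl⟩ := QuotientGroup.mk_surjective g
  obtain ⟨J, hJu, hJ⟩ := exists_intertwiner h hT g₀.2
  have hJi : ∀ i : ℕ, ∀ e ∈ E, J ^ i * ρ e = ρ (((g₀ ^ i : T) : G) * e * ((g₀ ^ i : T) : G)⁻¹) * J ^ i := by
    intro i
    induction i with
    | zero => intro e _; simp
    | succ i ih =>
      intro e he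
      rw [pow_succ J, mul_assoc, hJ e he, ← mul_assoc, ih _ (hT.norm g₀ g₀.2 e he), mul_assoc, pow_succ g₀,
        Subgroup.coe_mul, show ((g₀ ^ i : T) : G) * ((g₀ : G) * e * (g₀ : G)⁻¹) * ((g₀ ^ i : T) : G)⁻¹ =
          ((g₀ ^ i : T) : G) * g₀ * e * (((g₀ ^ i : T) : G) * g₀)⁻¹ by group]
  set m := orderOf (g₀ : T ⧸ C) with hm
  have hmC : g₀ ^ m ∈ C := by rw [← QuotientGroup.eq_one_iff, QuotientGroup.mk_pow, hm, pow_orderOf_eq_one]
  obtain ⟨c, hcJ⟩ := exists_scalar h (J ^ m) fun e he => by rw [hJi m e he, htrivC _ hmC e he]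
  have hc0 : c ≠ 0 := fun h0 => (hJu.pow m).ne_zero (by rw [hcJ, h0, zero_smul])
  obtain ⟨d, hd⟩ := IsAlgClosed.exists_pow_nat_eq c⁻¹ (orderOf_pos (g₀ : T ⧸ C))
  have hd0 : d ≠ 0 := by
    rintro rfl
    rw [zero_pow (orderOf_pos (g₀ : T ⧸ C)).ne'] at hd
    exact inv_ne_zero hc0 hd.symm
  have hJ'u : IsUnit (d • J) := hJu.smul (Units.mk0 d hd0)
  obtain ⟨u, hu⟩ := hJ'u
  have hum : u ^ m = 1 := Units.ext (by
    rw [Units.val_pow_eq_pow_val, hu, smul_pow, hd, hcJ, smul_smul, inv_mul_cancel₀ hc0, one_smul, Units.val_one])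
  let R₀ : T ⧸ C →* (Module.End ℂ V)ˣ := monoidHomOfForallMemZpowers hg (orderOf_dvd_of_pow_eq_one hum)
  let R₁ : T →* (Module.End ℂ V)ˣ := R₀.comp (QuotientGroup.mk' C)
  let Good : Subgroup T :=
    { carrier := {x | ∀ e ∈ E, (R₁ x : Module.End ℂ V) * ρ e = ρ ((x : G) * e * (x : G)⁻¹) * R₁ x}
      one_mem' := fun e _ => by simp
      mul_mem' := fun {x y} hx hy e he => by
        rw [map_mul, Units.val_mul, mul_assoc, hy e he, ← mul_assoc, hx _ (hT.norm y y.2 e he), mul_assoc,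
          Subgroup.coe_mul, show (x : G) * ((y : G) * e * (y : G)⁻¹) * (x : G)⁻¹ =
            (x : G) * y * e * ((x : G) * y)⁻¹ by group]
      inv_mem' := fun {x} hx e he => by
        have h9 := hx _ (hT.norm _ (T.inv_mem x.2) e he)
        rw [show (x : G) * ((x : G)⁻¹ * e * (x : G)⁻¹⁻¹) * (x : G)⁻¹ = e by group] at h9
        rw [map_inv, Subgroup.coe_inv, Units.inv_mul_eq_iff_eq_mul, ← mul_assoc, h9, mul_assoc, Units.mul_inv,
          mul_one] }
  have hgood : ∀ x : T, x ∈ Good := by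
    intro x
    obtain ⟨i, hi⟩ := hg (x : T ⧸ C)
    have hg₀ : g₀ ∈ Good := fun e he => by
      rw [show R₁ g₀ = u from monoidHomOfForallMemZpowers_apply_gen hg (orderOf_dvd_of_pow_eq_one hum), hu, smul_mul_assoc, hJ e he,
        mul_smul_comm]
    have hC : ∀ y ∈ C, y ∈ Good := fun y hy e he => by
      rw [show R₁ y = 1 by
        show R₀ (y : T ⧸ C) = 1
        rw [(QuotientGroup.eq_one_iff y).mpr hy, map_one], Units.val_one, one_mul, mul_one, htrivC y hy e he]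
    have hy : (g₀ ^ i)⁻¹ * x ∈ C := QuotientGroup.eq.mp (by rw [QuotientGroup.mk_zpow]; exact hi)
    rw [← mul_inv_cancel_left (g₀ ^ i) x]
    exact Good.mul_mem (Good.zpow_mem hg₀ i) (hC _ hy)
  refine ⟨fun g => if hg : g ∈ T then (R₁ ⟨g, hg⟩ : Module.End ℂ V) else 0, ?_, fun s hs t ht => ?_,
    fun t ht e he => ?_⟩
  · simp only [dif_pos T.one_mem]
    rw [show (⟨1, T.one_mem⟩ : T) = 1 from rfl, map_one, Units.val_one]
  · simp only [dif_pos hs, dif_pos ht, dif_pos (T.mul_mem hs ht), ← Units.val_mul, ← map_mul]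
    rfl
  · simp only [dif_pos ht]
    exact hgood ⟨t, ht⟩ e he

theorem lifts_aux : ∀ n : ℕ, LiftBelow.{u, v} G n := by
  classical
  intro n
  induction n with
  | zero => intro V _ _ _ E ρ T K hlt; omega
  | succ n ih =>
    intro V _ _ _ E ρ T K hlt h hT hK hTK h2 hodd hfpf
    rcases Nat.lt_succ_iff_lt_or_eq.mp hlt with hlt' | heq
    · exact ih V E ρ T K hlt' h hT hK hTK h2 hodd hfpf
    subst heq
    by_cases hns : ∃ e ∈ E, ¬ Sc ρ e
    swap
    · push Not at hns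
      exact ⟨fun _ => 1, rfl, fun s _ t _ => (one_mul 1).symm, fun t ht e he => by
        rw [one_mul, mul_one, hT.fix t ht e he (hns e he)]⟩
    by_cases hred : Reducible T K E ρ
    · exact lifts_of_invariant h hT hK hTK h2 hodd hfpf ih hred
    -- the last term of the derived series acting non-trivially
    haveI : Group.IsSolvable K := OddOrderTheorem.solvable hodd
    let D : Subgroup G → Prop := fun X => ∀ k ∈ X, ∀ e ∈ E, Sc ρ (e⁻¹ * (k * e * k⁻¹))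
    let Ls : ℕ → Subgroup G := fun i => (derivedSeries K i).map K.subtype
    obtain ⟨m, hm⟩ := (Group.isSolvable_def K).mp inferInstance
    have hex : ∃ i, D (Ls i) := ⟨m, fun k hk e _ => by
      simp only [Ls, hm, Subgroup.map_bot, Subgroup.mem_bot] at hk
      subst hk
      simpa using sc_one h⟩
    have hfind := Nat.find_spec hex
    have h0 : Nat.find hex ≠ 0 := by
      intro h0
      rw [h0] at hfind
      obtain ⟨e, he, hne⟩ := hns
      exact hne (hfpf e he fun k hk => hfind k ⟨⟨k, hk⟩, by rw [derivedSeries_zero]; trivial, rfl⟩ e he)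
    obtain ⟨j, hj⟩ := Nat.exists_eq_succ_of_ne_zero h0
    rw [hj] at hfind
    have hnD : ¬ D (Ls j) := Nat.find_min hex (by omega)
    set L := Ls j with hLdef
    have hLK : L ≤ K := Subgroup.map_subtype_le _
    have hnormL : ∀ g : G, (∀ k ∈ K, g * k * g⁻¹ ∈ K) → (∀ k ∈ K, g⁻¹ * k * g ∈ K) →
        ∀ l ∈ L, g * l * g⁻¹ ∈ L := by
      intro g hg hg' l hl
      let c : K →* K :=
        { toFun := fun a => ⟨g * a * g⁻¹, hg a a.2⟩
          map_one' := by ext; simp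
          map_mul' := fun a b => by ext; simp [mul_assoc] }
      have hsurj : Function.Surjective c := fun a => ⟨⟨g⁻¹ * a * g, hg' a a.2⟩, by ext; simp [c, mul_assoc]⟩
      obtain ⟨x, hx, rfl⟩ := hl
      refine ⟨c x, ?_, rfl⟩
      show c x ∈ derivedSeries K j
      rw [← map_derivedSeries_eq hsurj j]
      exact Subgroup.mem_map_of_mem c hx
    have hTL : ∀ t ∈ T, ∀ l ∈ L, t * l * t⁻¹ ∈ L := fun t ht => hnormL t (hTK t ht)
      (fun k hk => by simpa using hTK _ (T.inv_mem ht) k hk)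
    have hKL : ∀ k ∈ K, ∀ l ∈ L, k * l * k⁻¹ ∈ L := fun k hk => hnormL k
      (fun x hx => K.mul_mem (K.mul_mem hk hx) (K.inv_mem hk))
      (fun x hx => K.mul_mem (K.mul_mem (K.inv_mem hk) hx) hk)
    have hab : ∀ a ∈ L, ∀ b ∈ L, ∀ e ∈ E,
        Sc ρ (e⁻¹ * (a * b * a⁻¹ * b⁻¹ * e * (a * b * a⁻¹ * b⁻¹)⁻¹)) := by
      intro a ha b hb e he
      obtain ⟨x, hx, rfl⟩ := ha
      obtain ⟨y, hy, rfl⟩ := hb
      exact hfind _ ⟨_, by rw [derivedSeries_succ]; exact Subgroup.commutator_mem_commutator hx hy, rfl⟩ e he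
    have hL := hK.mono hLK
    have hoddL : Odd (Nat.card L) := hodd.of_dvd_nat (Subgroup.card_dvd_of_le hLK)
    have hfpfL : Fpf L E ρ := by
      intro e he hall
      by_contra hne
      refine hred ⟨Fix h hL, Fix_le h hL, fun s hs hsc => mem_Fix_of_sc h hL hs hsc,
        ⟨e, ⟨he, hall⟩, hne⟩, ?_, fun t ht a ha => conj_mem_Fix h hL hT ht
          (fun k hk => by simpa using hTL _ (T.inv_mem ht) k hk) ha,
        fun t ht a ha => conj_mem_Fix h hL hK ht (fun k hk => by simpa using hKL _ (K.inv_mem ht) k hk) ha⟩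
      by_contra hh
      push Not at hh
      exact hnD fun k hk x hx => (hh x hx).2 k hk
    by_cases hredL : Reducible T L E ρ
    · exact lifts_of_invariant h hT hL hTL h2 hoddL hfpfL ih hredL
    -- kernels: subgroups of `L` containing the elements acting trivially
    let good : Subgroup G → Prop := fun X => ∃ hX : X ≤ L,
      (∀ k ∈ L, (∀ e ∈ E, Sc ρ (e⁻¹ * (k * e * k⁻¹))) → k ∈ X) ∧ ∃ a ∈ Fix h (hL.mono hX), ¬ Sc ρ a
    let D₀ : Subgroup G :=
      { carrier := {k | k ∈ L ∧ ∀ e ∈ E, Sc ρ (e⁻¹ * (k * e * k⁻¹))}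
        one_mem' := ⟨L.one_mem, fun e _ => by simpa using sc_one h⟩
        mul_mem' := fun {x y} hx hy => ⟨L.mul_mem hx.1 hy.1, fun e he => by
          have hye := hL.norm y hy.1 e he
          rw [show e⁻¹ * (x * y * e * (x * y)⁻¹) =
            (e⁻¹ * (y * e * y⁻¹)) * ((y * e * y⁻¹)⁻¹ * (x * (y * e * y⁻¹) * x⁻¹)) by group]
          exact Sc.mul' h (E.mul_mem (E.inv_mem he) hye) (E.mul_mem (E.inv_mem hye) (hL.norm x hx.1 _ hye))
            (hy.2 e he) (hx.2 _ hye)⟩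
        inv_mem' := fun {x} hx => ⟨L.inv_mem hx.1, fun e he => by
          have hxe := hL.norm _ (L.inv_mem hx.1) e he
          rw [show e⁻¹ * (x⁻¹ * e * x⁻¹⁻¹) = ((x⁻¹ * e * x⁻¹⁻¹)⁻¹ * (x * (x⁻¹ * e * x⁻¹⁻¹) * x⁻¹))⁻¹ by group]
          exact (hx.2 _ hxe).inv' h (E.mul_mem (E.inv_mem hxe) (hL.norm x hx.1 _ hxe))⟩ }
    have hgood₀ : good D₀ := ⟨fun k hk => hk.1, fun k hk hk' => ⟨hk, hk'⟩, by
      obtain ⟨e, he, hne⟩ := hns
      exact ⟨e, ⟨he, fun k hk => hk.2 e he⟩, hne⟩⟩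
    haveI : Fintype (Subgroup G) := Fintype.ofFinite _
    obtain ⟨X, hXgood, hXmax⟩ := Finset.exists_max_image (Finset.univ.filter good) (fun X => Nat.card X)
      ⟨D₀, by simpa using hgood₀⟩
    simp only [Finset.mem_filter, Finset.mem_univ, true_and] at hXgood hXmax
    obtain ⟨hXL, hXD, hXns⟩ := hXgood
    have hXn : ∀ l ∈ L, ∀ x ∈ X, l * x * l⁻¹ ∈ X := by
      intro l hl x hx
      rw [show l * x * l⁻¹ = (l * x * l⁻¹ * x⁻¹) * x by group]
      exact X.mul_mem (hXD _ (L.mul_mem (L.mul_mem (L.mul_mem hl (hXL hx)) (L.inv_mem hl)) (L.inv_mem (hXL hx)))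
        (hab l hl x (hXL hx))) hx
    have hmax : ∀ (Y : Subgroup G) (hY : Y ≤ L), X < Y → ∀ a ∈ Fix h (hL.mono hY), Sc ρ a := by
      intro Y hY hXY a ha
      by_contra hne
      have h1 := hXmax Y ⟨hY, fun k hk hk' => hXY.le (hXD k hk hk'), a, ha, hne⟩
      exact hXY.ne (Subgroup.eq_of_le_of_card_ge hXY.le h1)
    by_cases hmove : ∃ t ∈ T, ∃ x ∈ X, t * x * t⁻¹ ∉ X
    · exact lifts_of_permuted h hT hL hTL h2 hoddL hfpfL ih hredL hXL hXn hXns hmax hmove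
    push Not at hmove
    refine lifts_of_fpf h hT hL hTL h2 hoddL hfpfL ih hns hab fun l hl ⟨e, he, hne⟩ a ha hfa => ?_
    have hall : ∀ b ∈ E, b ∈ Fix h (hL.mono hXL) := by
      intro b hb
      by_contra hb'
      exact hredL ⟨Fix h (hL.mono hXL), Fix_le h _, fun s hs hsc => mem_Fix_of_sc h _ hs hsc, hXns, ⟨b, hb, hb'⟩,
        fun t ht x hx => conj_mem_Fix h _ hT ht (fun k hk => by simpa using hmove _ (T.inv_mem ht) k hk) hx,
        fun t ht x hx => conj_mem_Fix h _ hL ht (fun k hk => by simpa using hXn _ (L.inv_mem ht) k hk) hx⟩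
    let St : Subgroup G :=
      { carrier := {k | k ∈ L ∧ Sc ρ (a⁻¹ * (k * a * k⁻¹))}
        one_mem' := ⟨L.one_mem, by simpa using sc_one h⟩
        mul_mem' := fun {x y} hx hy => ⟨L.mul_mem hx.1 hy.1, by
          have hya := hL.norm y hy.1 a ha
          rw [show a⁻¹ * (x * y * a * (x * y)⁻¹) =
            (a⁻¹ * (x * a * x⁻¹)) * (x * (a⁻¹ * (y * a * y⁻¹)) * x⁻¹) by group]
          exact Sc.mul' h (E.mul_mem (E.inv_mem ha) (hL.norm x hx.1 a ha))
            (hL.norm x hx.1 _ (E.mul_mem (E.inv_mem ha) hya))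
            hx.2 (sc_conj h hL hx.1 (E.mul_mem (E.inv_mem ha) hya) hy.2)⟩
        inv_mem' := fun {x} hx => ⟨L.inv_mem hx.1, by
          rw [show a⁻¹ * (x⁻¹ * a * x⁻¹⁻¹) = x⁻¹ * (a⁻¹ * (x * a * x⁻¹))⁻¹ * x⁻¹⁻¹ by group]
          exact sc_conj h hL (L.inv_mem hx.1) (E.inv_mem (E.mul_mem (E.inv_mem ha) (hL.norm x hx.1 a ha)))
            (hx.2.inv' h (E.mul_mem (E.inv_mem ha) (hL.norm x hx.1 a ha)))⟩ }
    have hlX : l ∉ X := fun hlX => hne ((hall e he).2 l hlX)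
    have hY : X < X ⊔ Subgroup.zpowers l := lt_of_le_of_ne le_sup_left fun e' =>
      hlX (by rw [e']; exact Subgroup.mem_sup_right (Subgroup.mem_zpowers l))
    refine hmax _ (sup_le hXL (Subgroup.zpowers_le.mpr hl)) hY a ⟨ha, fun k hk => ?_⟩
    have hle : X ⊔ Subgroup.zpowers l ≤ St :=
      sup_le (fun k hk => ⟨hXL hk, (hall a ha).2 k hk⟩) (Subgroup.zpowers_le.mpr ⟨hl, hfa⟩)
    exact (hle hk).2

/-- A 2-group `T` lifts if it normalises a group of odd order without fixed points modulo scalars. -/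
theorem lifts (h : Heis E ρ) {T K : Subgroup G} (hT : Acts T E ρ) (hK : Acts K E ρ)
    (hTK : ∀ t ∈ T, ∀ k ∈ K, t * k * t⁻¹ ∈ K) (h2 : IsPGroup 2 T) (hodd : Odd (Nat.card K))
    (hfpf : Fpf K E ρ) : Lifts T E ρ :=
  lifts_aux (Nat.card E + 1) V E ρ T K (Nat.lt_succ_self _) h hT hK hTK h2 hodd hfpf

end Cfsg.Agent.HeisenbergLift
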